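import Cfsg.Agent.Lib.Perm.ClassBound.Colours
import Cfsg.Agent.Lib.Solv.Parts

/-!
# Classes of smooth elements, prime by prime

`FF m n` bounds the number of classes of elements with all prime divisors of the order at most `m`, in a
permutation group of degree `n`.
-/

set_option autoImplicit false
set_option linter.unusedSectionVars false

namespace Cfsg.Agent.Perm.ClassBound

open Equiv Finset

universe u v

/-- One step of the bound: adding the prime `p`. -/
def stage (p : ℕ) (F : ℕ → ℕ) (n : ℕ) : ℕ := Rsum p (n / p) fun i => F (n - p * i) * F i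

/-- The bound for the number of classes of `m`-smooth elements in degree `n`. -/
def FF : ℕ → ℕ → ℕ
  | 0 => fun _ => 1
  | 1 => fun _ => 1
  | 2 => f2
  | m + 3 => if (m + 3).Prime then stage (m + 3) (FF (m + 2)) else FF (m + 2)

theorem stage_mono (p : ℕ) {F : ℕ → ℕ} (hF : Monotone F) : Monotone (stage p F) := fun a b hab =>
  (Rsum_mono p (Nat.div_le_div_right hab) _).trans
    (Rsum_mono_fun p _ fun i _ => Nat.mul_le_mul_right _ (hF (by omega)))

theorem FF_mono : ∀ m, Monotone (FF m)
  | 0 => monotone_const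
  | 1 => monotone_const
  | 2 => fun _ _ h => f2_mono h
  | m + 3 => by
    rw [FF]
    split_ifs
    · exact stage_mono _ (FF_mono (m + 2))
    · exact FF_mono (m + 2)

theorem f2_trade (f i : ℕ) : f2 f * f2 (i + 2) ≤ f2 (f + 6) * f2 i := by
  have h4 : ∀ n, f2 (n + 4) = 5 * f2 n := fun n => by
    rw [f2, f2, Nat.add_div_right n (by norm_num), Nat.add_mod_right, pow_succ]; ring
  calc f2 f * f2 (i + 2) ≤ f2 f * f2 (i + 4) := Nat.mul_le_mul_left _ (f2_mono (by omega))
    _ = 5 * f2 f * f2 i := by rw [h4]; ring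
    _ ≤ 5 * f2 (f + 2) * f2 i := by
      gcongr
      exact f2_mono (by omega)
    _ = f2 (f + 6) * f2 i := by rw [← h4]

/-- All prime divisors of the order are at most `m`. -/
def Smooth {G : Type*} [Monoid G] (m : ℕ) (g : G) : Prop := ∀ q : ℕ, q.Prime → q ∣ orderOf g → q ≤ m

open scoped Classical in
/-- The smooth elements of a permutation group. -/
noncomputable def smoothSet {α : Type u} [Fintype α] [DecidableEq α] (m : ℕ) (G : Subgroup (Perm α)) :
    Finset (Perm α) :=
  Finset.univ.filter fun g => g ∈ G ∧ Smooth m g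

theorem mem_smoothSet {α : Type u} [Fintype α] [DecidableEq α] {m : ℕ} {G : Subgroup (Perm α)} {g : Perm α} :
    g ∈ smoothSet m G ↔ g ∈ G ∧ Smooth m g := by
  simp [smoothSet]

/-- The number of commuting pairs with first member smooth. -/
noncomputable def smoothPairs {α : Type u} [Fintype α] [DecidableEq α] (m : ℕ) (G : Subgroup (Perm α)) : ℕ :=
  ∑ g ∈ smoothSet m G, cent G g

theorem cent_subtype {G : Type*} [Group G] (H : Subgroup G) (x : H) :
    Nat.card (Subgroup.centralizer ({x} : Set H)) = cent H (x : G) := by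
  refine Nat.card_congr
    { toFun := fun h => ⟨((h : H) : G), Subgroup.mem_inf.2 ⟨(h : H).2, Subgroup.mem_centralizer_singleton_iff.2
        (congrArg Subtype.val (Subgroup.mem_centralizer_singleton_iff.1 h.2))⟩⟩
      invFun := fun h => ⟨⟨(h : G), (Subgroup.mem_inf.1 h.2).1⟩, Subgroup.mem_centralizer_singleton_iff.2
        (Subtype.ext (Subgroup.mem_centralizer_singleton_iff.1 (Subgroup.mem_inf.1 h.2).2))⟩
      left_inv := fun _ => rfl
      right_inv := fun _ => rfl }

/-- In a coset of an abelian normal `p`-subgroup the `p'`-elements are conjugate. -/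
theorem conj_of_coset {G : Type*} [Group G] [Finite G] {K : Subgroup G} {p : ℕ} [hp : Fact p.Prime]
    (hK : IsPGroup p K) (hab : ∀ a ∈ K, ∀ b ∈ K, a * b = b * a) {a v : G}
    (hn : ∀ k ∈ K, v * k * v⁻¹ ∈ K) (ha : a ∈ K)
    (hv : (orderOf v).Coprime p) (hav : (orderOf (a * v)).Coprime p) :
    ∃ k ∈ K, k * v * k⁻¹ = a * v := by
  set d := orderOf v * orderOf (a * v) with hd
  have hdp : d.Coprime p := Nat.Coprime.mul_left hv hav
  let σ : ↥K →* ↥K := MonoidHom.mk' (fun k => ⟨v * k * v⁻¹, hn _ k.2⟩) fun k l => Subtype.ext (by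
    show v * ((k : G) * l) * v⁻¹ = v * k * v⁻¹ * (v * l * v⁻¹); group)
  letI : CommGroup ↥K := { (inferInstance : Group ↥K) with
    mul_comm := fun a b => Subtype.ext (hab a a.2 b b.2) }
  let A : ℕ → ↥K := fun i => Nat.rec 1 (fun _ x => ⟨a, ha⟩ * σ x) i
  have hA : ∀ i, (a * v) ^ i = Subtype.val (A i) * v ^ i := by
    intro i
    induction i with
    | zero => simp [A]
    | succ i ih =>
      rw [pow_succ', ih]
      show a * v * (Subtype.val (A i) * v ^ i) = a * (v * Subtype.val (A i) * v⁻¹) * v ^ (i + 1)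
      rw [pow_succ']; group
  have hAd : A d = 1 := by
    refine Subtype.ext ?_
    have h := hA d
    rw [orderOf_dvd_iff_pow_eq_one.1 (Dvd.intro_left _ hd.symm : orderOf (a * v) ∣ d),
      orderOf_dvd_iff_pow_eq_one.1 (Dvd.intro _ hd.symm : orderOf v ∣ d), mul_one] at h
    exact h.symm
  set c : ↥K := ∏ i ∈ Finset.range d, A i with hc
  have hσc : σ c = (⟨a, ha⟩ : ↥K)⁻¹ ^ d * c := by
    have h1 : ∏ i ∈ Finset.range d, σ (A i) = ∏ i ∈ Finset.range d, (⟨a, ha⟩ : ↥K)⁻¹ * A (i + 1) :=
      Finset.prod_congr rfl fun i _ => by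
        show σ (A i) = (⟨a, ha⟩ : ↥K)⁻¹ * (⟨a, ha⟩ * σ (A i))
        rw [inv_mul_cancel_left]
    have h2 := Finset.prod_range_succ A d
    rw [Finset.prod_range_succ', hAd, show A 0 = 1 from rfl, mul_one, mul_one] at h2
    rw [hc, map_prod, h1, Finset.prod_mul_distrib, Finset.prod_const, Finset.card_range, h2]
  obtain ⟨j, hj⟩ := IsPGroup.iff_orderOf.1 hK ⟨a, ha⟩
  obtain ⟨e, he⟩ : ∃ e : ℕ, (⟨a, ha⟩ : ↥K) ^ (d * e) = ⟨a, ha⟩ := by
    obtain ⟨e, he⟩ := exists_pow_eq_self_of_coprime (x := (⟨a, ha⟩ : ↥K)) (n := d)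
      (hj ▸ hdp.pow_right j)
    exact ⟨e, by rw [pow_mul]; exact he⟩
  refine ⟨((c ^ e : ↥K) : G), (c ^ e).2, ?_⟩
  have h3 : (c ^ e) * σ (c ^ e)⁻¹ = (⟨a, ha⟩ : ↥K) := by
    rw [map_inv, map_pow, hσc, ← div_eq_mul_inv, mul_pow, div_mul_eq_div_div_swap, div_self', one_div,
      ← inv_pow, ← inv_pow, inv_inv, ← pow_mul, he]
  calc ((c ^ e : ↥K) : G) * v * ((c ^ e : ↥K) : G)⁻¹
      = ((c ^ e : ↥K) : G) * (v * ((c ^ e : ↥K) : G)⁻¹ * v⁻¹) * v := by group
    _ = (((c ^ e) * σ (c ^ e)⁻¹ : ↥K) : G) * v := rfl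
    _ = a * v := by rw [h3]

variable {α : Type u} [Fintype α] [DecidableEq α]

theorem coprime_of_smooth {G : Type*} [Monoid G] {m p : ℕ} (hp : p.Prime) (hmp : m < p) {g : G}
    (h : Smooth m g) : (orderOf g).Coprime p :=
  Nat.Coprime.symm (hp.coprime_iff_not_dvd.2 fun hd => absurd (h p hp hd) (by omega))

open scoped Classical in
theorem fibre_le {β : Type u} [Fintype β] [DecidableEq β] {m p : ℕ} [hp : Fact p.Prime] (hmp : m < p)
    (C : Subgroup (Perm α)) (ρ : ↥C →* Perm β) (hK : IsPGroup p ρ.ker)
    (hab : ∀ a ∈ ρ.ker, ∀ b ∈ ρ.ker, a * b = b * a) (y : Perm β) (F : Finset (Perm α))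
    (hmem : ∀ g ∈ F, ∃ hgC : g ∈ C, Smooth m g ∧ ρ ⟨g, hgC⟩ = y) :
    ∑ g ∈ F, cent C g ≤ Nat.card ρ.ker * cent ρ.range y := by
  set K := ρ.ker.map C.subtype with hKdef
  have hKC : K ≤ C := Subgroup.map_subtype_le _
  have hCK : C ⊓ ρ.ker.map C.subtype = K := inf_eq_right.2 hKC
  have hcardK : Nat.card K = Nat.card ρ.ker := Subgroup.card_map_of_injective C.subtype_injective
  rcases F.eq_empty_or_nonempty with he | ⟨v0, hv0⟩
  · rw [he, Finset.sum_empty]; exact Nat.zero_le _
  obtain ⟨hv0C, hv0s, hv0y⟩ := hmem v0 hv0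
  have hconj : ∀ g ∈ F, ∃ k ∈ K, k * v0 * k⁻¹ = g := by
    intro g hg
    obtain ⟨hgC, hgs, hgy⟩ := hmem g hg
    have haK : (⟨g, hgC⟩ : C) * (⟨v0, hv0C⟩ : C)⁻¹ ∈ ρ.ker := by
      rw [MonoidHom.mem_ker, map_mul, map_inv, hgy, hv0y, mul_inv_cancel]
    have hord : ∀ x : C, orderOf x = orderOf (x : Perm α) := fun x => (Subgroup.orderOf_coe x).symm
    obtain ⟨k, hk, hke⟩ := conj_of_coset hK hab
      (a := (⟨g, hgC⟩ : C) * (⟨v0, hv0C⟩ : C)⁻¹) (v := ⟨v0, hv0C⟩)
      (fun k hk => Subgroup.Normal.conj_mem inferInstance k hk _) haK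
      (by rw [hord]; exact coprime_of_smooth hp.out hmp hv0s)
      (by rw [inv_mul_cancel_right, hord]; exact coprime_of_smooth hp.out hmp hgs)
    rw [inv_mul_cancel_right] at hke
    exact ⟨k, ⟨k, hk, rfl⟩, congrArg Subtype.val hke⟩
  calc ∑ g ∈ F, cent C g ≤ ∑ g ∈ F, cent ρ.range y * cent K g := by
        refine Finset.sum_le_sum fun g hg => ?_
        obtain ⟨hgC, -, hgy⟩ := hmem g hg
        have h := cent_le_mul ρ C le_rfl ⟨g, hgC⟩
        rw [hgy, hCK, Subgroup.subgroupOf_self, ← MonoidHom.range_eq_map] at h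
        exact h
    _ = cent ρ.range y * ∑ g ∈ F, cent K g := by rw [Finset.mul_sum]
    _ ≤ cent ρ.range y * Nat.card ρ.ker := by
        refine Nat.mul_le_mul_left _ ?_
        rw [← hcardK]
        calc ∑ g ∈ F, cent K g
            ≤ ∑ g ∈ F, ((Finset.univ.filter fun k : Perm α => k ∈ K).filter fun k => k * v0 * k⁻¹ = g).card := by
              refine Finset.sum_le_sum fun g hg => ?_
              obtain ⟨k0, hk0, rfl⟩ := hconj g hg
              rw [cent, Nat.card_eq_fintype_card, Fintype.card_subtype]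
              refine Finset.card_le_card_of_injOn (fun h => h * k0) ?_ (fun a _ b _ h => mul_right_cancel h)
              intro h hh
              rw [Finset.coe_filter] at hh ⊢
              obtain ⟨hhK, hhc⟩ := Subgroup.mem_inf.1 hh.2
              refine ⟨Finset.mem_filter.2 ⟨Finset.mem_univ _, K.mul_mem hhK hk0⟩, ?_⟩
              calc h * k0 * v0 * (h * k0)⁻¹ = h * (k0 * v0 * k0⁻¹) * h⁻¹ := by group
                _ = _ := by rw [Subgroup.mem_centralizer_singleton_iff.1 hhc]; group
          _ = ((Finset.univ.filter fun k : Perm α => k ∈ K).filter fun k => k * v0 * k⁻¹ ∈ F).card := by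
              rw [Finset.card_eq_sum_card_fiberwise (s := (Finset.univ.filter fun k : Perm α => k ∈ K).filter
                fun k => k * v0 * k⁻¹ ∈ F) (f := fun k => k * v0 * k⁻¹) (t := F)
                (fun k hk => (Finset.mem_filter.1 hk).2)]
              refine Finset.sum_congr rfl fun g hg => congrArg Finset.card ?_
              ext k
              simp only [Finset.mem_filter]
              exact ⟨fun h => ⟨⟨h.1, h.2 ▸ hg⟩, h.2⟩, fun h => ⟨h.1.1, h.2⟩⟩
          _ ≤ Nat.card K := by
              rw [Nat.card_eq_fintype_card, Fintype.card_subtype]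
              exact Finset.card_le_card (Finset.filter_subset _ _)
    _ = _ := mul_comm _ _

open scoped Classical in
/-- Passing to the image of a homomorphism with abelian `p`-group kernel. -/
theorem smoothPairs_hom {β : Type u} [Fintype β] [DecidableEq β] {m p : ℕ} [hp : Fact p.Prime] (hmp : m < p)
    (C : Subgroup (Perm α)) (ρ : ↥C →* Perm β) (hK : IsPGroup p ρ.ker)
    (hab : ∀ a ∈ ρ.ker, ∀ b ∈ ρ.ker, a * b = b * a) :
    smoothPairs m C ≤ Nat.card ρ.ker * smoothPairs m ρ.range := by
  obtain ⟨f, hf⟩ : ∃ f : Perm α → Perm β, ∀ g : C, f g = ρ g :=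
    ⟨fun g => if h : g ∈ C then ρ ⟨g, h⟩ else 1, fun g => dif_pos g.2⟩
  have hmaps : ∀ g ∈ smoothSet m C, f g ∈ smoothSet m ρ.range := by
    intro g hg
    rw [mem_smoothSet] at hg ⊢
    rw [show f g = ρ ⟨g, hg.1⟩ from hf ⟨g, hg.1⟩]
    refine ⟨⟨_, rfl⟩, fun q hq hd => hg.2 q hq ?_⟩
    rw [← Subgroup.orderOf_mk g hg.1]
    exact hd.trans (orderOf_map_dvd ρ _)
  rw [smoothPairs, smoothPairs, ← Finset.sum_fiberwise_of_maps_to hmaps, Finset.mul_sum]
  refine Finset.sum_le_sum fun y _ => fibre_le hmp C ρ hK hab y _ fun g hg => ?_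
  rw [Finset.mem_filter, mem_smoothSet] at hg
  exact ⟨hg.1.1, hg.1.2, (hf ⟨g, hg.1.1⟩).symm.trans hg.2⟩

theorem smul_eq_self_of_coprime {u : Perm α} {a : α} {i n : ℕ} (hn : orderOf u = n) (hi : i.Coprime n)
    (h : (u ^ i) a = a) : u a = a := by
  obtain ⟨e, he⟩ := exists_pow_eq_self_of_coprime (x := u) (n := i) (hn ▸ hi)
  rw [← he]
  exact Perm.pow_apply_eq_self_of_apply_eq_self h e

/-- The weight of an element at one colour. -/
def wgt (F : ℕ → ℕ) (p n i : ℕ) : ℕ := F (n - p * i) * F i

open scoped Classical in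
/-- Classes of smooth elements in the centralizer of a `p`-element. -/
theorem centralizer_step {ι : Type v} [Fintype ι] [DecidableEq ι] {m p : ℕ} [hp : Fact p.Prime] (hmp : m < p)
    (F : ℕ → ℕ) (hF : Monotone F)
    (IH : ∀ (β : Type u) [Fintype β] [DecidableEq β] (κ : Type v) [Fintype κ] [DecidableEq κ] (G : Subgroup (Perm β))
      (col : β → κ), Pres G col → smoothPairs m G ≤ Nat.card G * ∏ c, F (part col c).card)
    (G : Subgroup (Perm α)) (col : α → ι) (hG : Pres G col) {u : Perm α} (hu : u ∈ G)
    {k : ℕ} (hk : orderOf u = p ^ k) :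
    smoothPairs m (G ⊓ Subgroup.centralizer ({u} : Set (Perm α))) ≤
      cent G u * ∏ c, wgt F p (part col c).card ((u.support ∩ part col c).card / p) := by
  set C := G ⊓ Subgroup.centralizer ({u} : Set (Perm α)) with hC
  have hCu : ∀ g ∈ C, Commute g u := fun g hg =>
    Subgroup.mem_centralizer_singleton_iff.1 (Subgroup.mem_inf.1 hg).2
  let R : Setoid α := ⟨Perm.SameCycle u, Perm.SameCycle.equivalence u⟩
  have hmap : ∀ g ∈ C, ∀ a b : α, Perm.SameCycle u a b → Perm.SameCycle u (g a) (g b) := by
    rintro g hg a b ⟨i, rfl⟩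
    exact ⟨i, by rw [← Perm.mul_apply, ← ((hCu g hg).zpow_right i).eq, Perm.mul_apply]⟩
  let act : ↥C → Quotient R → Quotient R := fun g => Quotient.map' (g : Perm α) (hmap g g.2)
  have act_mul : ∀ g h : C, ∀ x, act (g * h) x = act g (act h x) := by
    intro g h x; induction x using Quotient.inductionOn' with | h a => rfl
  have act_one : ∀ x, act 1 x = x := by
    intro x; induction x using Quotient.inductionOn' with | h a => rfl
  let toP : ↥C → Perm (Quotient R) := fun g =>
    ⟨act g, act g⁻¹, fun x => by rw [← act_mul, inv_mul_cancel, act_one],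
      fun x => by rw [← act_mul, mul_inv_cancel, act_one]⟩
  let ρ : ↥C →* Perm (Quotient R) := MonoidHom.mk' toP fun g h => Equiv.ext fun x => act_mul g h x
  have hker : ∀ g ∈ ρ.ker, ∀ a, ∃ i : ℤ, (u ^ i) a = (g : Perm α) a := by
    intro g hg a
    have h : act g (Quotient.mk'' a) = Quotient.mk'' a := by
      have h' : toP g = 1 := hg
      exact congrArg (fun e : Perm (Quotient R) => e (Quotient.mk'' a)) h'
    exact Perm.SameCycle.symm (Quotient.exact h)
  have hab : ∀ g ∈ ρ.ker, ∀ h ∈ ρ.ker, g * h = h * g := by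
    intro g hg h hh
    refine Subtype.ext (Equiv.ext fun a => ?_)
    obtain ⟨i, hi⟩ := hker g hg a
    obtain ⟨j, hj⟩ := hker h hh a
    show (g : Perm α) ((h : Perm α) a) = (h : Perm α) ((g : Perm α) a)
    rw [← hi, ← hj, ← Perm.mul_apply, ((hCu g g.2).zpow_right j).eq, Perm.mul_apply, ← hi,
      ← Perm.mul_apply (h : Perm α), ((hCu h h.2).zpow_right i).eq, Perm.mul_apply (u ^ i), ← hj,
      ← Perm.mul_apply, ← Perm.mul_apply, ← zpow_add, ← zpow_add, add_comm]
  have hKp : IsPGroup p ρ.ker := by
    intro g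
    refine ⟨k, Subtype.ext (Subtype.ext (Equiv.ext fun a => ?_))⟩
    obtain ⟨i, hi⟩ := hker g g.2 a
    rw [Subgroup.coe_pow, Subgroup.coe_pow]
    have hpow : ∀ n : ℕ, (((g : C) : Perm α) ^ n) a = (u ^ (i * n)) a := by
      intro n
      induction n with
      | zero => simp
      | succ n ih =>
        rw [pow_succ', Perm.mul_apply, ih, ← Perm.mul_apply, ((hCu _ (g : C).2).zpow_right _).eq,
          Perm.mul_apply, ← hi, ← Perm.mul_apply, ← zpow_add]
        congr 2
        push_cast; ring
    rw [hpow, zpow_mul, zpow_natCast, ← hk, ← zpow_natCast, ← zpow_mul, mul_comm i, zpow_mul, zpow_natCast,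
      pow_orderOf_eq_one, one_zpow]
    rfl
  let col' : Quotient R → ι × Bool := fun x =>
    Quotient.liftOn' x (fun a => (col a, decide (u a = a))) (by
      rintro a b ⟨i, rfl⟩
      refine Prod.ext (hG _ (G.zpow_mem hu i) a).symm ?_
      simp only [decide_eq_decide]
      constructor
      · intro h
        rw [Perm.zpow_apply_eq_self_of_apply_eq_self h, h]
      · intro h
        rw [← Perm.mul_apply, mul_self_zpow, zpow_add_one] at h
        exact (u ^ i).injective (by rw [← Perm.mul_apply]; exact h))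
  have hpres : Pres ρ.range col' := by
    rintro _ ⟨g, rfl⟩ x
    induction x using Quotient.inductionOn' with
    | h a =>
      show (col ((g : Perm α) a), decide (u ((g : Perm α) a) = (g : Perm α) a)) = (col a, decide (u a = a))
      refine Prod.ext (hG _ (Subgroup.mem_inf.1 g.2).1 a) (decide_eq_decide.2 ?_)
      rw [← Perm.mul_apply, ← (hCu g g.2).eq, Perm.mul_apply, EmbeddingLike.apply_eq_iff_eq]
  have hfix : ∀ c, (part col' (c, true)).card ≤ (part col c).card - (u.support ∩ part col c).card := by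
    intro c
    rw [← Finset.card_sdiff_of_subset Finset.inter_subset_right]
    refine Finset.card_le_card_of_surjOn (fun a => (Quotient.mk'' a : Quotient R)) ?_
    intro x hx
    induction x using Quotient.inductionOn' with
    | h a =>
      rw [Finset.mem_coe, mem_part] at hx
      obtain ⟨h1, h2⟩ := Prod.mk.injEq _ _ _ _ ▸ (hx : (col a, decide (u a = a)) = (c, true))
      refine ⟨a, ?_, rfl⟩
      rw [Finset.mem_coe, Finset.mem_sdiff, mem_part, Finset.mem_inter, not_and]
      exact ⟨h1, fun h => absurd (of_decide_eq_true h2) (Perm.mem_support.1 h)⟩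
  have hmov : ∀ c, (part col' (c, false)).card ≤ (u.support ∩ part col c).card / p := by
    intro c
    rw [Nat.le_div_iff_mul_le hp.out.pos, ← Finset.card_range p, ← Finset.card_product]
    refine Finset.card_le_card_of_injOn (fun xi => (u ^ xi.2) xi.1.out) ?_ ?_
    · intro xi hxi
      simp only [Finset.coe_product, Set.mem_prod, Finset.mem_coe, mem_part] at hxi
      rw [Finset.mem_coe, Finset.mem_inter, mem_part, Perm.mem_support]
      have hx := hxi.1
      rw [← Quotient.out_eq' xi.1] at hx
      obtain ⟨h1, h2⟩ := Prod.mk.injEq _ _ _ _ ▸ (hx : (col xi.1.out, decide (u xi.1.out = xi.1.out)) = (c, false))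
      refine ⟨fun h => of_decide_eq_false h2 ?_, (hG _ (G.pow_mem hu _) _).trans h1⟩
      rw [← Perm.mul_apply, ← pow_succ', pow_succ, Perm.mul_apply] at h
      exact (u ^ xi.2).injective h
    · intro x hx y hy he
      simp only [Finset.coe_product, Set.mem_prod, Finset.mem_coe, mem_part, Finset.coe_range, Set.mem_Iio] at hx hy
      have hxy : x.1 = y.1 := by
        rw [← Quotient.out_eq' x.1, ← Quotient.out_eq' y.1]
        refine Quotient.sound' ⟨(x.2 : ℤ) - y.2, ?_⟩
        rw [sub_eq_neg_add, zpow_add, Perm.mul_apply, zpow_natCast, zpow_neg, zpow_natCast,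
          show (u ^ x.2) x.1.out = (u ^ y.2) y.1.out from he]
        exact (u ^ y.2).symm_apply_apply _
      have hb : u x.1.out ≠ x.1.out := by
        have h := hx.1
        rw [← Quotient.out_eq' x.1] at h
        exact of_decide_eq_false (congrArg Prod.snd (h : (col x.1.out, decide (u x.1.out = x.1.out)) = (c, false)) :)
      have key : ∀ i j : ℕ, i ≤ j → j < p → (u ^ i) x.1.out = (u ^ j) x.1.out → i = j := by
        intro i j hij hj h
        by_contra hne
        rw [show j = i + (j - i) by omega, pow_add, Perm.mul_apply] at h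
        refine hb (smul_eq_self_of_coprime hk ?_ ((u ^ i).injective h).symm)
        exact (Nat.Coprime.pow_right k (Nat.coprime_comm.1 (hp.out.coprime_iff_not_dvd.2
          (Nat.not_dvd_of_pos_of_lt (by omega) (by omega)))))
      refine Prod.ext hxy ?_
      simp only [← hxy] at he
      rcases Nat.le_total x.2 y.2 with h | h
      · exact key _ _ h hy.2 he
      · exact (key _ _ h hx.2 he.symm).symm
  calc smoothPairs m C ≤ Nat.card ρ.ker * smoothPairs m ρ.range := smoothPairs_hom hmp C ρ hKp hab
    _ ≤ Nat.card ρ.ker * (Nat.card ρ.range * ∏ c : ι × Bool, F (part col' c).card) :=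
        Nat.mul_le_mul_left _ (IH (Quotient R) (ι × Bool) ρ.range col' hpres)
    _ = Nat.card C * ∏ c : ι, F (part col' (c, true)).card * F (part col' (c, false)).card := by
        rw [← mul_assoc, mul_comm (Nat.card ρ.ker), ← Subgroup.index_ker, Subgroup.index_mul_card,
          Fintype.prod_prod_type]
        simp
    _ ≤ _ := by
        refine Nat.mul_le_mul le_rfl (Finset.prod_le_prod (fun _ _ => Nat.zero_le _) fun c _ => ?_)
        refine Nat.mul_le_mul (hF ((hfix c).trans ?_)) (hF (hmov c))
        have := Nat.mul_div_le (u.support ∩ part col c).card p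
        omega

open scoped Classical in
/-- Transfer of the `p`-group bounds to all `p`-elements of a group. -/
theorem pElements_bound {ι : Type v} [Fintype ι] [DecidableEq ι] {p : ℕ} [hp : Fact p.Prime]
    (G : Subgroup (Perm α)) (col : α → ι) (hG : Pres G col) (w : ι → ℕ → ℕ) (R : ι → ℕ)
    (bound : ∀ c, ∀ P : Subgroup (Perm α), IsPGroup p P → Supp P (part col c) → ∀ K ≤ P, ∀ u ∈ P,
      pairSum K u (fun x => w c (x.support.card / p)) ≤ Nat.card K * R c) :
    ∑ g ∈ Finset.univ.filter (fun g : Perm α => g ∈ G ∧ ∃ k, orderOf g = p ^ k),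
        cent G g * ∏ c, w c ((g.support ∩ part col c).card / p) ≤ Nat.card G * ∏ c, R c := by
  set W : Perm α → ℕ := fun g => ∏ c, w c ((g.support ∩ part col c).card / p) with hW
  obtain ⟨P⟩ : Nonempty (Sylow p G) := inferInstance
  have hconj : ∀ g t : ↥G, W ((t * g * t⁻¹ : ↥G) : Perm α) = W (g : Perm α) := by
    intro g t
    refine Finset.prod_congr rfl fun c _ => ?_
    congr 2
    rw [Subgroup.coe_mul, Subgroup.coe_mul, Subgroup.coe_inv, Perm.support_conj]
    rw [← Finset.card_map (t : Perm α).toEmbedding (s := (g : Perm α).support ∩ part col c), Finset.map_inter]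
    congr 2
    ext a
    rw [Finset.mem_map_equiv, mem_part, mem_part]
    have := hG _ t.2 ((t : Perm α).symm a)
    rw [Equiv.apply_symm_apply] at this
    rw [this]
  set P' := (P : Subgroup G).map G.subtype with hP'
  have hP'G : P' ≤ G := Subgroup.map_subtype_le _
  have hcard : Nat.card P' = Nat.card (P : Subgroup G) := Subgroup.card_map_of_injective G.subtype_injective
  have hcol := colours_bound col w R bound Finset.univ P' (P.isPGroup'.map G.subtype)
    (fun g _ => fun a _ => by simp) (fun g hg => hG g (hP'G hg)) P' le_rfl 1 P'.one_mem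
  have hsum := sylow_sum P (fun g : ↥G => W (g : Perm α)) hconj
  have hR : ∑ x : ↥(P : Subgroup G),
      Nat.card (Subgroup.centralizer ({x} : Set ↥(P : Subgroup G))) * W ((x : G) : Perm α) ≤
        Nat.card P' * ∏ c, R c := by
    refine le_trans (le_of_eq ?_) hcol
    rw [pairSum]
    refine Finset.sum_bij (fun x _ => ((x : G) : Perm α)) ?_ ?_ ?_ ?_
    · intro x _
      rw [mem_coset, inv_one, mul_one]
      exact ⟨(x : G), x.2, rfl⟩
    · intro x _ y _ h
      exact Subtype.ext (Subtype.ext h)
    · intro z hz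
      rw [mem_coset, inv_one, mul_one] at hz
      obtain ⟨x, hx, rfl⟩ := hz
      exact ⟨⟨x, hx⟩, Finset.mem_univ _, rfl⟩
    · intro x _
      congr 1
      rw [cent_subtype]
      refine Nat.card_congr
        { toFun := fun h => ⟨((h : G) : Perm α), Subgroup.mem_inf.2 ⟨⟨(h : G), (Subgroup.mem_inf.1 h.2).1, rfl⟩,
            Subgroup.mem_centralizer_singleton_iff.2 (congrArg Subtype.val
              (Subgroup.mem_centralizer_singleton_iff.1 (Subgroup.mem_inf.1 h.2).2) :)⟩⟩
          invFun := fun h => ⟨⟨(h : Perm α), hP'G (Subgroup.mem_inf.1 h.2).1⟩, Subgroup.mem_inf.2 ⟨by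
              obtain ⟨y, hy, hye⟩ := (Subgroup.mem_inf.1 h.2).1
              have e : y = ⟨(h : Perm α), hP'G (Subgroup.mem_inf.1 h.2).1⟩ := Subtype.ext hye
              exact e ▸ hy,
            Subgroup.mem_centralizer_singleton_iff.2 (Subtype.ext
              (Subgroup.mem_centralizer_singleton_iff.1 (Subgroup.mem_inf.1 h.2).2))⟩⟩
          left_inv := fun _ => rfl
          right_inv := fun _ => rfl }
  have hP0 : 0 < Nat.card P' := Nat.card_pos
  refine Nat.le_of_mul_le_mul_left ?_ hP0
  rw [hcard]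
  calc Nat.card (P : Subgroup G) * _ = Nat.card (P : Subgroup G) *
        ∑ g ∈ Finset.univ.filter (fun g : G => ∃ k, orderOf g = p ^ k),
          Nat.card (Subgroup.centralizer ({g} : Set G)) * W (g : Perm α) := by
        congr 1
        refine Finset.sum_bij (fun g hg => (⟨g, (Finset.mem_filter.1 hg).2.1⟩ : G)) ?_ ?_ ?_ ?_
        · intro g hg
          exact Finset.mem_filter.2 ⟨Finset.mem_univ _, by
            rw [Subgroup.orderOf_mk]; exact (Finset.mem_filter.1 hg).2.2⟩
        · intro a _ b _ h
          exact congrArg Subtype.val h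
        · intro g hg
          exact ⟨g, Finset.mem_filter.2 ⟨Finset.mem_univ _, g.2, by
            rw [Subgroup.orderOf_coe]; exact (Finset.mem_filter.1 hg).2⟩, rfl⟩
        · intro g hg
          rw [cent_subtype]
    _ ≤ Nat.card G * (Nat.card P' * ∏ c, R c) := hsum.trans (Nat.mul_le_mul_left _ hR)
    _ = _ := by rw [hcard]; ring

open scoped Classical in
theorem two_stage {ι : Type v} [Fintype ι] [DecidableEq ι] [Fact (Nat.Prime 2)] (G : Subgroup (Perm α)) (col : α → ι)
    (hG : Pres G col) (_P : Sylow 2 G) : smoothPairs 2 G ≤ Nat.card G * ∏ c, FF 2 (part col c).card := by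
  have h := pElements_bound (p := 2) G col hG (fun _ _ => 1) (fun c => f2 (part col c).card)
    (fun c P hP hS K hK u hu => two_bound _ P hP hS K hK u hu)
  simp only [Finset.prod_const_one, mul_one] at h
  refine le_trans (Finset.sum_le_sum_of_subset ?_) h
  intro g hg
  rw [mem_smoothSet] at hg
  refine Finset.mem_filter.2 ⟨Finset.mem_univ _, hg.1, (orderOf g).primeFactorsList.length, ?_⟩
  refine Nat.eq_prime_pow_of_unique_prime_dvd (orderOf_pos g).ne' fun {q} hq hd => ?_
  have := hg.2 q hq hd
  have := hq.two_le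
  omega

open scoped Classical in
theorem odd_stage {ι : Type v} [Fintype ι] [DecidableEq ι] {m p : ℕ} [Fact p.Prime] (hp : p.Prime) (h3 : 3 ≤ p)
    (F : ℕ → ℕ) (hF : Monotone F)
    (htrade : p = 3 → ∀ i f, F f * F (i + 2) ≤ F (f + 6) * F i)
    (IH : ∀ (β : Type u) [Fintype β] [DecidableEq β] (κ : Type v) [Fintype κ] [DecidableEq κ] (G : Subgroup (Perm β))
      (col : β → κ), Pres G col → smoothPairs m G ≤ Nat.card G * ∏ c, F (part col c).card)
    (G : Subgroup (Perm α)) (col : α → ι) (hG : Pres G col) (hm : p = m + 1 := by omega) :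
    smoothPairs p G ≤ Nat.card G * ∏ c, stage p F (part col c).card := by
  have h := pElements_bound (p := p) G col hG (fun c => wgt F p (part col c).card)
    (fun c => stage p F (part col c).card) (fun c P hP hS K hK u hu => odd_bound p h3 _ P hP hS K hK u hu _ (by
      intro h i hi
      subst h
      rw [wgt, wgt]
      calc F ((part col c).card - 3 * (i + 2)) * F (i + 2) ≤
            F ((part col c).card - 3 * (i + 2) + 6) * F i := htrade rfl _ _
        _ ≤ _ := Nat.mul_le_mul_right _ (hF (by omega))))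
  refine le_trans ?_ h
  set U := Finset.univ.filter (fun g : Perm α => g ∈ G ∧ ∃ k, orderOf g = p ^ k)
  have hsplit : ∀ g : Perm α, ∃ x y : Perm α, x ∈ Subgroup.zpowers g ∧ y ∈ Subgroup.zpowers g ∧ x * y = g ∧
      (∃ k : ℕ, orderOf x = p ^ k) ∧ (orderOf y).Coprime p := fun g => Cfsg.Agent.Solv.exists_ppart p g
  choose x y hx hy hxy hxo hyo using hsplit
  calc smoothPairs p G
      ≤ ∑ u ∈ U, smoothPairs m (G ⊓ Subgroup.centralizer ({u} : Set (Perm α))) := by
        rw [smoothPairs, ← Finset.sum_fiberwise_of_maps_to (t := U) (g := x) (fun g hg =>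
          Finset.mem_filter.2 ⟨Finset.mem_univ _,
            (Subgroup.zpowers_le.2 (mem_smoothSet.1 hg).1) (hx g), hxo g⟩)]
        refine Finset.sum_le_sum fun u _ => ?_
        rw [smoothPairs]
        set S := (smoothSet p G).filter (fun g => x g = u)
        have hSm : ∀ g ∈ S, (g ∈ G ∧ Smooth p g) ∧ x g = u ∧ Commute (y g) u := by
          intro g hg
          rw [Finset.mem_filter, mem_smoothSet] at hg
          refine ⟨hg.1, hg.2, ?_⟩
          rw [← hg.2]
          obtain ⟨i, hi⟩ := hx g
          obtain ⟨j, hj⟩ := hy g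
          rw [← hi, ← hj]
          exact Commute.zpow_zpow_self g j i
        calc ∑ g ∈ S, cent G g ≤ ∑ g ∈ S, cent (G ⊓ Subgroup.centralizer ({u} : Set (Perm α))) (y g) := by
              refine Finset.sum_le_sum fun g hg => Subgroup.card_le_of_le ?_
              intro z hz
              obtain ⟨hzG, hzc⟩ := Subgroup.mem_inf.1 hz
              have hzg : Commute z g := Subgroup.mem_centralizer_singleton_iff.1 hzc
              have hpow : ∀ t ∈ Subgroup.zpowers g, Commute z t := by
                rintro t ⟨i, rfl⟩; exact hzg.zpow_right i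
              exact Subgroup.mem_inf.2 ⟨Subgroup.mem_inf.2 ⟨hzG, Subgroup.mem_centralizer_singleton_iff.2
                  ((hSm g hg).2.1 ▸ hpow _ (hx g)).eq⟩,
                Subgroup.mem_centralizer_singleton_iff.2 (hpow _ (hy g)).eq⟩
          _ = ∑ z ∈ S.image y, cent (G ⊓ Subgroup.centralizer ({u} : Set (Perm α))) z := by
              rw [Finset.sum_image]
              intro a ha b hb hab
              rw [← hxy a, ← hxy b, (hSm a ha).2.1, (hSm b hb).2.1, show y a = y b from hab]
          _ ≤ _ := by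
              refine Finset.sum_le_sum_of_subset fun z hz => ?_
              obtain ⟨g, hg, rfl⟩ := Finset.mem_image.1 hz
              obtain ⟨⟨hgG, hgs⟩, -, hcm⟩ := hSm g hg
              refine mem_smoothSet.2 ⟨Subgroup.mem_inf.2
                ⟨(Subgroup.zpowers_le.2 hgG) (hy g), Subgroup.mem_centralizer_singleton_iff.2 hcm.eq⟩, ?_⟩
              intro q hq hd
              have h1 := hgs q hq (hd.trans (orderOf_dvd_of_mem_zpowers (hy g)))
              rcases eq_or_ne q p with rfl | hne
              · exact absurd (Nat.eq_one_of_dvd_coprimes (hyo g) hd dvd_rfl) hq.ne_one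
              · omega
    _ ≤ _ := by
        refine Finset.sum_le_sum fun u hu => ?_
        obtain ⟨k, hk⟩ := (Finset.mem_filter.1 hu).2.2
        exact centralizer_step (by omega) F hF IH G col hG (Finset.mem_filter.1 hu).2.1 hk

open scoped Classical in
theorem smoothPairs_small {m : ℕ} (hm : m ≤ 1) (G : Subgroup (Perm α)) : smoothPairs m G ≤ Nat.card G := by
  have h1 : ∀ g : Perm α, g ∈ smoothSet m G → g = 1 := fun g hg =>
    orderOf_eq_one_iff.1 (Nat.eq_one_iff_not_exists_prime_dvd.2 fun q hq hd => by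
      have := (mem_smoothSet.1 hg).2 q hq hd
      have := hq.two_le
      omega)
  refine le_trans (Finset.sum_le_sum_of_subset (fun g hg => Finset.mem_singleton.2 (h1 g hg))) ?_
  rw [Finset.sum_singleton, cent]
  exact Subgroup.card_le_of_le inf_le_left

open scoped Classical in
/-- The bound for all stages. -/
theorem smoothPairs_le : ∀ (m : ℕ) (α : Type u) [Fintype α] [DecidableEq α] (ι : Type v) [Fintype ι] [DecidableEq ι]
    (G : Subgroup (Perm α)) (col : α → ι), Pres G col →
    smoothPairs m G ≤ Nat.card G * ∏ c, FF m (part col c).card := by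
  intro m
  induction m using Nat.strong_induction_on with
  | _ m IH =>
    intro α _ _ ι _ _ G col hG
    match m with
    | 0 => exact le_trans (smoothPairs_small (by norm_num) G) (le_of_eq (by simp [FF]))
    | 1 => exact le_trans (smoothPairs_small le_rfl G) (le_of_eq (by simp [FF]))
    | 2 =>
      haveI := Fact.mk Nat.prime_two
      obtain ⟨P⟩ : Nonempty (Sylow 2 G) := inferInstance
      exact two_stage G col hG P
    | m + 3 =>
      rw [FF]
      split_ifs with hp
      · haveI := Fact.mk hp
        exact odd_stage hp (by omega) (FF (m + 2)) (FF_mono _) (fun h i f => by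
            have : m = 0 := by omega
            subst this
            exact f2_trade f i)
          (fun β _ _ κ _ _ H c hc => IH (m + 2) (by omega) β κ H c hc) G col hG
      · refine le_trans (le_of_eq ?_) (IH (m + 2) (by omega) α ι G col hG)
        have hiff : ∀ g : Perm α, Smooth (m + 3) g ↔ Smooth (m + 2) g := by
          refine fun g => ⟨fun h q hq hd => ?_, fun h q hq hd => (h q hq hd).trans (by omega)⟩
          have := h q hq hd
          rcases Nat.lt_or_ge q (m + 3) with h' | h'
          · omega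
          · exact absurd ((show q = m + 3 by omega) ▸ hq) hp
        exact Finset.sum_congr (Finset.ext fun g => by rw [mem_smoothSet, mem_smoothSet, hiff g]) fun _ _ => rfl

end Cfsg.Agent.Perm.ClassBound
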