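import Mathlib

/-!
# Weighted counts of commuting pairs in permutation groups: basic notions

For a subgroup `K` of a permutation group, an element `u` and a weight `w`, `pairSum K u w` is the sum over `x` in
the coset `K u` of `|C_K(x)| · w x`; divided by `|K|` it is the weighted number of `K`-orbits on `K u`.
-/

set_option autoImplicit false
set_option linter.unusedSectionVars false

namespace Cfsg.Agent.Perm.ClassBound

open Equiv Finset

variable {α : Type*} [Fintype α] [DecidableEq α]

/-- The number of elements of `K` commuting with `x`. -/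
noncomputable def cent {G : Type*} [Group G] (K : Subgroup G) (x : G) : ℕ :=
  Nat.card ↥(K ⊓ Subgroup.centralizer ({x} : Set G))

open scoped Classical in
/-- The right coset `K u`. -/
noncomputable def coset {G : Type*} [Group G] [Fintype G] (K : Subgroup G) (u : G) : Finset G :=
  Finset.univ.filter fun x => x * u⁻¹ ∈ K

/-- Weighted commuting pairs between `K` and `K u`. -/
noncomputable def pairSum {G : Type*} [Group G] [Fintype G] (K : Subgroup G) (u : G) (w : G → ℕ) : ℕ :=
  ∑ x ∈ coset K u, cent K x * w x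

theorem mem_coset {G : Type*} [Group G] [Fintype G] {K : Subgroup G} {u x : G} :
    x ∈ coset K u ↔ x * u⁻¹ ∈ K := by
  simp [coset]

theorem self_mem_coset {G : Type*} [Group G] [Fintype G] (K : Subgroup G) (u : G) : u ∈ coset K u := by
  rw [mem_coset, mul_inv_cancel]; exact K.one_mem

theorem card_coset {G : Type*} [Group G] [Fintype G] (K : Subgroup G) (u : G) :
    (coset K u).card = Nat.card K := by
  classical
  rw [Nat.card_eq_fintype_card, ← Finset.card_univ]
  refine Finset.card_bij (fun x hx => (⟨x * u⁻¹, mem_coset.1 hx⟩ : K)) (fun _ _ => Finset.mem_univ _) ?_ ?_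
  · intro a ha b hb h
    exact mul_right_cancel (congrArg Subtype.val h)
  · intro k _
    exact ⟨(k : G) * u, mem_coset.2 (by simp), Subtype.ext (by simp)⟩

theorem coset_eq_of_mem {G : Type*} [Group G] [Fintype G] {K : Subgroup G} {u v : G} (hv : v ∈ coset K u) :
    coset K v = coset K u := by
  rw [mem_coset] at hv
  ext x
  rw [mem_coset, mem_coset]
  constructor
  · intro h; have := K.mul_mem h hv; simpa [mul_assoc] using this
  · intro h; have := K.mul_mem h (K.inv_mem hv); simpa [mul_assoc] using this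

theorem coset_subset {G : Type*} [Group G] [Fintype G] {K P : Subgroup G} (hK : K ≤ P) {u x : G} (hu : u ∈ P)
    (hx : x ∈ coset K u) : x ∈ P := by
  have := P.mul_mem (hK (mem_coset.1 hx)) hu
  simpa using this

/-- An element normalizes a subgroup. -/
def Norms {G : Type*} [Group G] (u : G) (K : Subgroup G) : Prop := ∀ k : G, k ∈ K ↔ u * k * u⁻¹ ∈ K

/-- The centralizer count is bounded through a homomorphism defined on `P`. -/
theorem cent_le_mul {G H : Type*} [Group G] [Finite G] [Group H] [Finite H] {P : Subgroup G} (π : ↥P →* H)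
    (K : Subgroup G) (hK : K ≤ P) (x : P) :
    cent K (x : G) ≤ cent ((K.subgroupOf P).map π) (π x) * cent (K ⊓ π.ker.map P.subtype) (x : G) := by
  classical
  set A := K ⊓ Subgroup.centralizer ({(x : G)} : Set G) with hA
  have hAP : A ≤ P := inf_le_left.trans hK
  let f : ↥A →* H := π.comp (Subgroup.inclusion hAP)
  have h1 : Nat.card f.range ≤ cent ((K.subgroupOf P).map π) (π x) := by
    refine Subgroup.card_le_of_le ?_
    rintro _ ⟨a, rfl⟩
    refine Subgroup.mem_inf.2 ⟨⟨Subgroup.inclusion hAP a, Subgroup.mem_subgroupOf.2 (Subgroup.mem_inf.1 a.2).1, rfl⟩, ?_⟩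
    rw [Subgroup.mem_centralizer_singleton_iff]
    show π _ * π x = π x * π _
    rw [← map_mul, ← map_mul]
    congr 1
    exact Subtype.ext (Subgroup.mem_centralizer_singleton_iff.1 (Subgroup.mem_inf.1 a.2).2)
  have h2 : Nat.card f.ker ≤ cent (K ⊓ π.ker.map P.subtype) (x : G) := by
    refine Nat.card_le_card_of_injective (fun a => ⟨((a : A) : G), ?_⟩) ?_
    · refine Subgroup.mem_inf.2 ⟨Subgroup.mem_inf.2 ⟨(Subgroup.mem_inf.1 (a : A).2).1, ?_⟩, (Subgroup.mem_inf.1 (a : A).2).2⟩
      exact ⟨Subgroup.inclusion hAP a, a.2, rfl⟩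
    · intro a b h
      exact Subtype.ext (Subtype.ext (congrArg Subtype.val h :))
  calc cent K (x : G) = Nat.card f.range * Nat.card f.ker := by
        rw [← Subgroup.index_ker, Subgroup.index_mul_card]; rfl
    _ ≤ _ := Nat.mul_le_mul h1 h2

theorem card_map_mul {G H : Type*} [Group G] [Finite G] [Group H] [Finite H] {P : Subgroup G} (π : ↥P →* H)
    (K : Subgroup G) (hK : K ≤ P) :
    Nat.card ((K.subgroupOf P).map π) * Nat.card ↥(K ⊓ π.ker.map P.subtype) = Nat.card K := by
  let f : ↥K →* H := π.comp (Subgroup.inclusion hK)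
  have h1 : f.range = (K.subgroupOf P).map π := by
    ext y
    constructor
    · rintro ⟨a, rfl⟩
      exact ⟨Subgroup.inclusion hK a, Subgroup.mem_subgroupOf.2 a.2, rfl⟩
    · rintro ⟨a, ha, rfl⟩
      exact ⟨⟨(a : G), Subgroup.mem_subgroupOf.1 ha⟩, rfl⟩
  have h2 : f.ker.map K.subtype = K ⊓ π.ker.map P.subtype := by
    ext y
    constructor
    · rintro ⟨a, ha, rfl⟩
      exact Subgroup.mem_inf.2 ⟨a.2, ⟨Subgroup.inclusion hK a, ha, rfl⟩⟩
    · intro hy
      obtain ⟨hyK, b, hb, rfl⟩ := Subgroup.mem_inf.1 hy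
      exact ⟨⟨(b : G), hyK⟩, hb, rfl⟩
  rw [← h1, ← h2, Subgroup.card_map_of_injective K.subtype_injective, ← Subgroup.index_ker,
    Subgroup.index_mul_card]

/-- Splitting a weighted pair count along a homomorphism. -/
theorem pairSum_split {G H : Type*} [Group G] [Fintype G] [Group H] [Fintype H] {P : Subgroup G} (π : ↥P →* H)
    (K : Subgroup G) (hK : K ≤ P) (u : P) (w : G → ℕ) (B : H → ℕ) (R : ℕ)
    (h2 : ∀ x : P, (x : G) ∈ coset K (u : G) →
      pairSum (K ⊓ π.ker.map P.subtype) (x : G) w ≤ Nat.card ↥(K ⊓ π.ker.map P.subtype) * B (π x))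
    (h1 : pairSum ((K.subgroupOf P).map π) (π u) B ≤ Nat.card ((K.subgroupOf P).map π) * R) :
    pairSum K (u : G) w ≤ Nat.card K * R := by
  classical
  set K1 := (K.subgroupOf P).map π
  set K2 := K ⊓ π.ker.map P.subtype
  let π' : G → H := fun g => if h : g ∈ P then π ⟨g, h⟩ else 1
  have hπ' : ∀ g : P, π' (g : G) = π g := fun g => dif_pos g.2
  have hmaps : ∀ g ∈ coset K (u : G), π' g ∈ coset K1 (π u) := by
    intro g hg
    have hgP := coset_subset hK u.2 hg
    rw [show π' g = π ⟨g, hgP⟩ from dif_pos hgP, mem_coset, ← map_inv, ← map_mul]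
    exact ⟨_, Subgroup.mem_subgroupOf.2 (mem_coset.1 hg), rfl⟩
  rw [pairSum, ← Finset.sum_fiberwise_of_maps_to hmaps]
  have hfib : ∀ y ∈ coset K1 (π u),
      ∑ g ∈ (coset K (u : G)).filter (fun g => π' g = y), cent K g * w g ≤
        Nat.card K2 * (cent K1 y * B y) := by
    intro y hy
    rcases Finset.eq_empty_or_nonempty ((coset K (u : G)).filter (fun g => π' g = y)) with he | ⟨g0, hg0⟩
    · rw [he]; simp
    · rw [Finset.mem_filter] at hg0
      have hg0P := coset_subset hK u.2 hg0.1
      have hy0 : π ⟨g0, hg0P⟩ = y := by rw [← hg0.2]; exact (hπ' ⟨g0, hg0P⟩).symm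
      have hsub : (coset K (u : G)).filter (fun g => π' g = y) = coset K2 g0 := by
        ext g
        rw [Finset.mem_filter]
        constructor
        · rintro ⟨hg, hgy⟩
          have hgP := coset_subset hK u.2 hg
          rw [mem_coset]
          refine Subgroup.mem_inf.2 ⟨?_, ⟨⟨g, hgP⟩ * (⟨g0, hg0P⟩ : P)⁻¹, ?_, rfl⟩⟩
          · rw [← coset_eq_of_mem hg0.1, mem_coset] at hg; exact hg
          · show π _ = 1
            rw [map_mul, map_inv, hy0, ← hgy, show π' g = π ⟨g, hgP⟩ from dif_pos hgP, mul_inv_cancel]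
        · intro hg
          rw [mem_coset] at hg
          obtain ⟨hgK, b, hb, hbe⟩ := Subgroup.mem_inf.1 hg
          have hg' : g ∈ coset K (u : G) := by rw [← coset_eq_of_mem hg0.1, mem_coset]; exact hgK
          refine ⟨hg', ?_⟩
          have hgP := coset_subset hK u.2 hg'
          have e : (⟨g, hgP⟩ : P) = b * ⟨g0, hg0P⟩ := Subtype.ext (by
            show g = (b : G) * g0
            rw [show (b : G) = g * g0⁻¹ from hbe]; group)
          rw [show π' g = π ⟨g, hgP⟩ from dif_pos hgP, e, map_mul, show π b = 1 from hb, one_mul, hy0]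
      calc ∑ g ∈ (coset K (u : G)).filter (fun g => π' g = y), cent K g * w g
          ≤ ∑ g ∈ coset K2 g0, cent K1 y * (cent K2 g * w g) := by
            rw [hsub]
            refine Finset.sum_le_sum fun g hg => ?_
            have hg' : g ∈ (coset K (u : G)).filter (fun g => π' g = y) := hsub ▸ hg
            rw [Finset.mem_filter] at hg'
            have hgP := coset_subset hK u.2 hg'.1
            have := cent_le_mul π K hK ⟨g, hgP⟩
            rw [show π ⟨g, hgP⟩ = y by rw [← hg'.2]; exact (hπ' ⟨g, hgP⟩).symm] at this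
            rw [← mul_assoc]
            exact Nat.mul_le_mul_right _ this
        _ = cent K1 y * pairSum K2 g0 w := by rw [Finset.mul_sum _ _ _ |>.symm]; rfl
        _ ≤ cent K1 y * (Nat.card K2 * B y) := Nat.mul_le_mul_left _ (hy0 ▸ h2 ⟨g0, hg0P⟩ hg0.1)
        _ = Nat.card K2 * (cent K1 y * B y) := by ring
  calc _ ≤ ∑ y ∈ coset K1 (π u), Nat.card K2 * (cent K1 y * B y) := Finset.sum_le_sum hfib
    _ = Nat.card K2 * pairSum K1 (π u) B := by rw [pairSum, Finset.mul_sum]
    _ ≤ Nat.card K2 * (Nat.card K1 * R) := Nat.mul_le_mul_left _ h1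
    _ = Nat.card K * R := by rw [← card_map_mul π K hK]; ring

/-- The binomially weighted sum which bounds weighted pair counts in `p`-groups. -/
def Rsum (p k : ℕ) (w : ℕ → ℕ) : ℕ := ∑ i ∈ Finset.range (k + 1), k.choose i * (p - 1) ^ i * w i

theorem Rsum_eq_powerset {β : Type*} [DecidableEq β] (p : ℕ) (s : Finset β) (w : ℕ → ℕ) :
    Rsum p s.card w = ∑ A ∈ s.powerset, (p - 1) ^ A.card * w A.card := by
  rw [Finset.sum_powerset_apply_card (fun i => (p - 1) ^ i * w i)]
  simp [Rsum, mul_assoc]

theorem Rsum_succ (p k : ℕ) (w : ℕ → ℕ) :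
    Rsum p (k + 1) w = Rsum p k w + (p - 1) * Rsum p k (fun i => w (i + 1)) := by
  classical
  have h := Rsum_eq_powerset p (Finset.range (k + 1)) w
  rw [Finset.card_range, Finset.range_add_one, Finset.sum_powerset_insert Finset.notMem_range_self] at h
  rw [h]
  have e1 := Rsum_eq_powerset p (Finset.range k) w
  have e2 := Rsum_eq_powerset p (Finset.range k) (fun i => w (i + 1))
  rw [Finset.card_range] at e1 e2
  rw [e1, e2, Finset.mul_sum]
  congr 1
  refine Finset.sum_congr rfl fun A hA => ?_
  have hk : k ∉ A := fun hh => Finset.notMem_range_self (Finset.mem_powerset.1 hA hh)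
  rw [Finset.card_insert_of_notMem (by simpa using hk)]
  ring

theorem Rsum_mono_fun (p k : ℕ) {w w' : ℕ → ℕ} (h : ∀ i ≤ k, w i ≤ w' i) : Rsum p k w ≤ Rsum p k w' :=
  Finset.sum_le_sum fun i hi =>
    Nat.mul_le_mul_left _ (h i (Nat.lt_succ_iff.1 (Finset.mem_range.1 hi)))

theorem Rsum_mono (p : ℕ) {k k' : ℕ} (hk : k ≤ k') (w : ℕ → ℕ) : Rsum p k w ≤ Rsum p k' w := by
  induction hk with
  | refl => exact le_rfl
  | step _ ih => rw [Rsum_succ]; exact ih.trans (Nat.le_add_right _ _)

theorem Rsum_zero (p : ℕ) (w : ℕ → ℕ) : Rsum p 0 w = w 0 := by simp [Rsum]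

theorem Rsum_comp (p k1 k2 : ℕ) (w : ℕ → ℕ) :
    Rsum p k1 (fun a => Rsum p k2 (fun i => w (a + i))) = Rsum p (k1 + k2) w := by
  induction k1 generalizing w with
  | zero => simp [Rsum_zero]
  | succ k ih =>
    rw [Rsum_succ, show k + 1 + k2 = k + k2 + 1 by ring, Rsum_succ, ← ih, ← ih]
    congr 3
    funext a
    congr 1
    funext i
    congr 1
    ring

end Cfsg.Agent.Perm.ClassBound
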