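import Cfsg.Agent.Lib.Perm.ClassBound.Restrict

/-!
# The transitive step for weighted pair counts in `p`-groups
-/

set_option autoImplicit false
set_option linter.unusedSectionVars false

namespace Cfsg.Agent.Perm.ClassBound

open Equiv Finset

variable {α : Type*} [Fintype α] [DecidableEq α]

/-- Splitting along two invariant sets. -/
theorem pairSum_split_sets {P : Subgroup (Perm α)} {s1 s2 : Finset α} (hd : _root_.Disjoint s1 s2)
    (hS : Supp P (s1 ∪ s2)) (hi1 : Inv P s1) (hi2 : Inv P s2)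
    (K : Subgroup (Perm α)) (hK : K ≤ P) {u : Perm α} (hu : u ∈ P) (W B : Perm α → ℕ) (R : ℕ)
    (h2 : ∀ a ∈ (res P s1 hi1).range, ∀ K' ≤ (res P s2 hi2).range, ∀ u' ∈ (res P s2 hi2).range,
      pairSum K' u' (fun y => W (a * y)) ≤ Nat.card K' * B a)
    (h1 : ∀ K' ≤ (res P s1 hi1).range, ∀ u' ∈ (res P s1 hi1).range, pairSum K' u' B ≤ Nat.card K' * R) :
    pairSum K u W ≤ Nat.card K * R := by
  classical
  refine pairSum_split (res P s1 hi1) K hK ⟨u, hu⟩ W B R ?_
    (h1 _ (MonoidHom.range_eq_map (res P s1 hi1) ▸ Subgroup.map_mono le_top) _ ⟨_, rfl⟩)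
  intro x hx
  set K2 := K ⊓ (res P s1 hi1).ker.map P.subtype with hK2
  set a := res P s1 hi1 x with ha
  set b := res P s2 hi2 x with hb
  have hk2 : ∀ k ∈ K2, ∃ k' : P, (k' : Perm α) = k ∧ res P s1 hi1 k' = 1 ∧ res P s2 hi2 k' = k := by
    intro k hk
    obtain ⟨-, k', hk', rfl⟩ := Subgroup.mem_inf.1 hk
    refine ⟨k', rfl, hk', ?_⟩
    obtain ⟨e, -⟩ := eq_res_mul hi1 hi2 hd k' (hS _ k'.2)
    rw [show res P s1 hi1 k' = 1 from hk', one_mul] at e
    exact e.symm
  have hle : K2 ≤ (res P s2 hi2).range := fun k hk => by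
    obtain ⟨k', -, -, h⟩ := hk2 k hk
    exact ⟨k', h⟩
  obtain ⟨hxe, -⟩ := eq_res_mul hi1 hi2 hd x (hS _ x.2)
  rw [← ha, ← hb] at hxe
  have hcomm : ∀ k ∈ K2, Commute a k := by
    intro k hk
    obtain ⟨k', -, -, h⟩ := hk2 k hk
    rw [← h]
    refine Perm.Disjoint.commute ?_
    intro c
    by_cases hc : c ∈ s1
    · exact Or.inr (res_notMem hi2 k' (Finset.disjoint_left.1 hd hc))
    · exact Or.inl (res_notMem hi1 x hc)
  have hcent : ∀ k ∈ K2, ∀ y : Perm α, y ∈ coset K2 b → (Commute k (a * y) ↔ Commute k y) := by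
    intro k hk y _
    constructor
    · intro h
      have := (hcomm k hk).symm.inv_right.mul_right h
      rwa [inv_mul_cancel_left] at this
    · intro h
      exact (hcomm k hk).symm.mul_right h
  calc pairSum K2 (x : Perm α) W = pairSum K2 b (fun y => W (a * y)) := by
        rw [pairSum, pairSum]
        symm
        refine Finset.sum_bij (fun y _ => a * y) ?_ (fun _ _ _ _ h => mul_left_cancel h) ?_ ?_
        · intro y hy
          rw [mem_coset] at hy ⊢
          have h := (hcomm _ hy).eq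
          rw [hxe]
          have e : a * y * (a * b)⁻¹ = y * b⁻¹ := by
            calc a * y * (a * b)⁻¹ = a * (y * b⁻¹) * a⁻¹ := by group
              _ = y * b⁻¹ := by rw [h]; group
          rw [e]; exact hy
        · intro z hz
          rw [mem_coset] at hz
          refine ⟨z * (x : Perm α)⁻¹ * b, mem_coset.2 (by simpa using hz), ?_⟩
          have h := (hcomm _ hz).eq
          calc a * (z * (x : Perm α)⁻¹ * b) = a * (z * (x : Perm α)⁻¹) * b := by group
            _ = z * (x : Perm α)⁻¹ * (a * b) := by rw [h]; group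
            _ = z := by rw [← hxe]; group
        · intro y hy
          congr 1
          refine congrArg (Nat.card ·) ?_
          congr 1
          ext k
          constructor <;> intro h
          · obtain ⟨h1, h2⟩ := Subgroup.mem_inf.1 h
            exact Subgroup.mem_inf.2 ⟨h1, Subgroup.mem_centralizer_singleton_iff.2
              ((hcent k h1 y hy).2 (Subgroup.mem_centralizer_singleton_iff.1 h2))⟩
          · obtain ⟨h1, h2⟩ := Subgroup.mem_inf.1 h
            exact Subgroup.mem_inf.2 ⟨h1, Subgroup.mem_centralizer_singleton_iff.2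
              ((hcent k h1 y hy).1 (Subgroup.mem_centralizer_singleton_iff.1 h2))⟩
    _ ≤ _ := h2 a ⟨x, rfl⟩ K2 hle b ⟨x, rfl⟩

/-- A system of `p` blocks for a transitive `p`-group. -/
structure Blocks (p : ℕ) (P M : Subgroup (Perm α)) (s B : Finset α) : Prop where
  le : M ≤ P
  normal : ∀ g ∈ P, ∀ h ∈ M, g * h * g⁻¹ ∈ M
  cover : ∀ x ∈ P, x ∉ M → ∀ g ∈ P, ∃ l < p, (x ^ l)⁻¹ * g ∈ M
  pow_mem : ∀ x ∈ P, x ∉ M → ∀ l : ℕ, x ^ l ∈ M → p ∣ l
  supp : Supp P s
  inv : Inv M B
  sub : B ⊆ s
  orbit : ∀ b ∈ s, ∀ c ∈ B, ∃ g ∈ P, g c = b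
  stab : ∀ g ∈ P, ∀ b ∈ B, g b ∈ B → g ∈ M

namespace Blocks

variable {p : ℕ} {P M : Subgroup (Perm α)} {s B : Finset α}

theorem exists_block (h : Blocks p P M s B) (hB : B.Nonempty) {x : Perm α} (hx : x ∈ P) (hxM : x ∉ M)
    {b : α} (hb : b ∈ s) : ∃ l < p, ∃ c ∈ B, (x ^ l) c = b := by
  obtain ⟨c, hc⟩ := hB
  obtain ⟨g, hg, hgb⟩ := h.orbit b hb c hc
  obtain ⟨l, hl, hlM⟩ := h.cover x hx hxM g hg
  refine ⟨l, hl, ((x ^ l)⁻¹ * g) c, (h.inv _ hlM c).2 hc, ?_⟩
  rw [← Perm.mul_apply, mul_inv_cancel_left, hgb]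

theorem block_unique (h : Blocks p P M s B) {x : Perm α} (hx : x ∈ P) (hxM : x ∉ M) {l l' : ℕ} (hl : l < p)
    (hl' : l' < p) {c c' : α} (hc : c ∈ B) (hc' : c' ∈ B) (he : (x ^ l) c = (x ^ l') c') : l = l' ∧ c = c' := by
  wlog hle : l ≤ l' generalizing l l' c c'
  · obtain ⟨h1, h2⟩ := this hl' hl hc' hc he.symm (le_of_not_ge hle)
    exact ⟨h1.symm, h2.symm⟩
  rw [show l' = l + (l' - l) by omega, pow_add, Perm.mul_apply] at he
  have he' := (x ^ l).injective he
  have hM := h.stab _ (P.pow_mem hx _) c' hc' (he' ▸ hc)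
  have := Nat.eq_zero_of_dvd_of_lt (h.pow_mem x hx hxM _ hM) (by omega)
  exact ⟨by omega, by rw [he', this]; simp⟩

theorem no_fix (h : Blocks p P M s B) (hB : B.Nonempty) (hp : 1 < p) {x : Perm α} (hx : x ∈ P) (hxM : x ∉ M) :
    x.support = s := by
  refine (h.supp x hx).antisymm fun b hb => Perm.mem_support.2 fun hfix => ?_
  obtain ⟨l, hl, c, hc, rfl⟩ := h.exists_block hB hx hxM hb
  rw [← Perm.mul_apply, ← pow_succ', pow_succ, Perm.mul_apply] at hfix
  have hxc : x c ∈ B := by rw [(x ^ l).injective hfix]; exact hc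
  exact hxM (h.stab x hx c hc hxc)

theorem card (h : Blocks p P M s B) (hB : B.Nonempty) {x : Perm α} (hx : x ∈ P) (hxM : x ∉ M) :
    s.card = p * B.card := by
  rw [← Finset.card_range p, ← Finset.card_product]
  symm
  refine Finset.card_bij (fun lc _ => (x ^ lc.1) lc.2) ?_ ?_ ?_
  · intro lc hlc
    rw [Finset.mem_product] at hlc
    exact (h.supp.inv _ (P.pow_mem hx _) _).2 (h.sub hlc.2)
  · intro a ha b hb he
    rw [Finset.mem_product, Finset.mem_range] at ha hb
    obtain ⟨h1, h2⟩ := h.block_unique hx hxM ha.1 hb.1 ha.2 hb.2 he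
    exact Prod.ext h1 h2
  · intro b hb
    obtain ⟨l, hl, c, hc, rfl⟩ := h.exists_block hB hx hxM hb
    exact ⟨(l, c), Finset.mem_product.2 ⟨Finset.mem_range.2 hl, hc⟩, rfl⟩

theorem fix_iff {x y : Perm α} (hc : Commute y x) (l : ℕ) (c : α) : y ((x ^ l) c) = (x ^ l) c ↔ y c = c := by
  rw [← Perm.mul_apply, (hc.pow_right l).eq, Perm.mul_apply, EmbeddingLike.apply_eq_iff_eq]

theorem supp_card_of_comm (h : Blocks p P M s B) (hB : B.Nonempty) {x y : Perm α} (hx : x ∈ P) (hxM : x ∉ M)
    (hy : y ∈ M) (hc : Commute y x) : y.support.card = p * (y.support ∩ B).card := by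
  rw [← Finset.card_range p, ← Finset.card_product]
  symm
  refine Finset.card_bij (fun lc _ => (x ^ lc.1) lc.2) ?_ ?_ ?_
  · intro lc hlc
    rw [Finset.mem_product, Finset.mem_inter] at hlc
    rw [Perm.mem_support, Ne, fix_iff hc]
    exact Perm.mem_support.1 hlc.2.1
  · intro a ha b hb he
    rw [Finset.mem_product, Finset.mem_range, Finset.mem_inter] at ha hb
    obtain ⟨h1, h2⟩ := h.block_unique hx hxM ha.1 hb.1 ha.2.2 hb.2.2 he
    exact Prod.ext h1 h2
  · intro b hb
    obtain ⟨l, hl, c, hcB, rfl⟩ := h.exists_block hB hx hxM (h.supp y (h.le hy) hb)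
    rw [Perm.mem_support, Ne, fix_iff hc] at hb
    exact ⟨(l, c), Finset.mem_product.2 ⟨Finset.mem_range.2 hl, Finset.mem_inter.2 ⟨Perm.mem_support.2 hb, hcB⟩⟩, rfl⟩

theorem res_inj (h : Blocks p P M s B) (hB : B.Nonempty) {x : Perm α} (hx : x ∈ P) (hxM : x ∉ M) {y z : M}
    (hy : Commute (y : Perm α) x) (hz : Commute (z : Perm α) x)
    (he : res M B h.inv y = res M B h.inv z) : y = z := by
  refine Subtype.ext (Equiv.ext fun b => ?_)
  by_cases hb : b ∈ s
  · obtain ⟨l, -, c, hc, rfl⟩ := h.exists_block hB hx hxM hb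
    rw [← Perm.mul_apply, ← Perm.mul_apply, (hy.pow_right l).eq, (hz.pow_right l).eq, Perm.mul_apply,
      Perm.mul_apply, ← res_mem h.inv y hc, he, res_mem h.inv z hc]
  · rw [h.supp.fix (h.le y.2) hb, h.supp.fix (h.le z.2) hb]

theorem cent_le (h : Blocks p P M s B) [Fact p.Prime] (hP : IsPGroup p P) (hB : B.Nonempty) {x : Perm α}
    (hx : x ∈ P) (hxM : x ∉ M) : cent M x ≤ p ^ ((B.card - 1) / (p - 1)) := by
  refine le_trans ?_ (card_le_of_supp (isPGroup_range_res h.inv (hP.to_le h.le)) (supp_range_res h.inv) hB)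
  refine Nat.card_le_card_of_injective
    (fun y => ⟨res M B h.inv ⟨(y : Perm α), (Subgroup.mem_inf.1 y.2).1⟩, ⟨_, rfl⟩⟩) ?_
  intro y z he
  have hc : ∀ w : ↥(M ⊓ Subgroup.centralizer ({x} : Set (Perm α))), Commute (w : Perm α) x := fun w =>
    Subgroup.mem_centralizer_singleton_iff.1 (Subgroup.mem_inf.1 w.2).2
  have := h.res_inj hB hx hxM (y := ⟨(y : Perm α), (Subgroup.mem_inf.1 y.2).1⟩)
    (z := ⟨(z : Perm α), (Subgroup.mem_inf.1 z.2).1⟩) (hc y) (hc z) (congrArg Subtype.val he :)
  exact Subtype.ext (congrArg Subtype.val this :)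

theorem cent_le_mul (h : Blocks p P M s B) (hp : p.Prime) (K : Subgroup (Perm α)) (hK : K ≤ P) (x : Perm α) :
    cent K x ≤ p * cent (K ⊓ M) x := by
  classical
  have hp0 : 0 < p := hp.pos
  set A := K ⊓ Subgroup.centralizer ({x} : Set (Perm α))
  set A' := (K ⊓ M) ⊓ Subgroup.centralizer ({x} : Set (Perm α))
  show Nat.card A ≤ p * Nat.card A'
  by_cases hAM : A ≤ M
  · calc Nat.card A ≤ Nat.card A' := Subgroup.card_le_of_le
          (le_inf (le_inf inf_le_left hAM) inf_le_right)
      _ ≤ p * Nat.card A' := Nat.le_mul_of_pos_left _ hp0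
  · obtain ⟨g, hg, hgM⟩ := SetLike.not_le_iff_exists.1 hAM
    have hgP := hK (Subgroup.mem_inf.1 hg).1
    have hex : ∀ a : A, ∃ l : Fin p, (g ^ (l : ℕ))⁻¹ * (a : Perm α) ∈ A' := by
      intro a
      obtain ⟨l, hl, hlM⟩ := h.cover g hgP hgM a (hK (Subgroup.mem_inf.1 a.2).1)
      have hA : (g ^ l)⁻¹ * (a : Perm α) ∈ A := A.mul_mem (A.inv_mem (A.pow_mem hg l)) a.2
      exact ⟨⟨l, hl⟩, Subgroup.mem_inf.2 ⟨Subgroup.mem_inf.2 ⟨(Subgroup.mem_inf.1 hA).1, hlM⟩, (Subgroup.mem_inf.1 hA).2⟩⟩
    choose l hl using hex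
    calc Nat.card A ≤ Nat.card (Fin p × A') := by
          refine Nat.card_le_card_of_injective (fun a => (l a, ⟨_, hl a⟩)) ?_
          intro a b he
          simp only [Prod.mk.injEq, Subtype.mk.injEq] at he
          rw [he.1] at he
          exact Subtype.ext (mul_left_cancel he.2)
      _ = p * Nat.card A' := by rw [Nat.card_prod, Nat.card_fin]

theorem card_eq (h : Blocks p P M s B) (hp : p.Prime) (K : Subgroup (Perm α)) (hK : K ≤ P) (hKM : ¬ K ≤ M) :
    Nat.card K = p * Nat.card ↥(K ⊓ M) := by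
  classical
  obtain ⟨g, hg, hgM⟩ := SetLike.not_le_iff_exists.1 hKM
  let f : Fin p × ↥(K ⊓ M) → K := fun a => ⟨g ^ (a.1 : ℕ) * (a.2 : Perm α),
    K.mul_mem (K.pow_mem hg _) (Subgroup.mem_inf.1 a.2.2).1⟩
  have hf : Function.Bijective f := by
    constructor
    · intro a b he
      have he' : g ^ (a.1 : ℕ) * (a.2 : Perm α) = g ^ (b.1 : ℕ) * (b.2 : Perm α) := congrArg Subtype.val he
      have key : ∀ a b : Fin p × ↥(K ⊓ M), (a.1 : ℕ) ≤ b.1 →
          g ^ (a.1 : ℕ) * (a.2 : Perm α) = g ^ (b.1 : ℕ) * (b.2 : Perm α) → a = b := by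
        intro a b hle he
        rw [show (b.1 : ℕ) = a.1 + ((b.1 : ℕ) - a.1) by omega, pow_add, mul_assoc, mul_left_cancel_iff] at he
        have hM : g ^ ((b.1 : ℕ) - a.1) ∈ M := by
          have e : g ^ ((b.1 : ℕ) - a.1) = (a.2 : Perm α) * (b.2 : Perm α)⁻¹ := by rw [he]; group
          rw [e]
          exact M.mul_mem (Subgroup.mem_inf.1 a.2.2).2 (M.inv_mem (Subgroup.mem_inf.1 b.2.2).2)
        have h0 := Nat.eq_zero_of_dvd_of_lt (h.pow_mem g (hK hg) hgM _ hM) (by omega)
        rw [h0, pow_zero, one_mul] at he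
        exact Prod.ext (Fin.ext (by omega)) (Subtype.ext he)
      rcases Nat.le_total (a.1 : ℕ) b.1 with hle | hle
      · exact key a b hle he'
      · exact (key b a hle he'.symm).symm
    · intro k
      obtain ⟨l, hl, hlM⟩ := h.cover g (hK hg) hgM k (hK k.2)
      refine ⟨(⟨l, hl⟩, ⟨_, Subgroup.mem_inf.2 ⟨K.mul_mem (K.inv_mem (K.pow_mem hg l)) k.2, hlM⟩⟩), ?_⟩
      exact Subtype.ext (mul_inv_cancel_left _ _)
  rw [← Nat.card_congr (Equiv.ofBijective f hf), Nat.card_prod, Nat.card_fin]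

theorem mul_mem_iff (h : Blocks p P M s B) {x y : Perm α} (hy : y ∈ M) : x * y ∈ M ↔ x ∈ M :=
  M.mul_mem_cancel_right hy

open scoped Classical in
/-- The transitive step. -/
theorem trans_bound (h : Blocks p P M s B) (hp : p.Prime) (K : Subgroup (Perm α)) (hK : K ≤ P) {u : Perm α}
    (hu : u ∈ P) (W : Perm α → ℕ) (T Fx E wm : ℕ)
    (hT : ∀ K0 ≤ M, ∀ u0 ∈ M, pairSum K0 u0 W ≤ Nat.card K0 * T)
    (hout : ∀ x ∈ P, x ∉ M → W x ≤ wm)
    (hFx : ∀ k ∈ P, k ∉ M → ∑ y ∈ (Finset.univ.filter fun y => y ∈ M ∧ Commute y k), W y ≤ Fx)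
    (hE : ∀ x ∈ P, x ∉ M → cent M x ≤ E) :
    pairSum K u W ≤ Nat.card K * T ∨
      p * pairSum K u W ≤ Nat.card K * (T + (p - 1) * Fx + p * (p - 1) * E * wm) := by
  by_cases hKM : K ≤ M
  · by_cases huM : u ∈ M
    · exact Or.inl (hT K hKM u huM)
    · refine Or.inr ?_
      have hS : pairSum K u W ≤ Nat.card K * (E * wm) := by
        rw [pairSum, ← card_coset K u, ← smul_eq_mul, ← Finset.sum_const]
        refine Finset.sum_le_sum fun x hx => ?_
        have hxM : x ∉ M := fun hx' => huM (by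
          have := M.mul_mem (M.inv_mem (hKM (mem_coset.1 hx))) hx'
          simpa [mul_assoc] using this)
        have hxP := coset_subset hK hu hx
        exact Nat.mul_le_mul ((Subgroup.card_le_of_le (inf_le_inf_right _ hKM)).trans (hE x hxP hxM)) (hout x hxP hxM)
      have h1 : 1 ≤ p - 1 := by have := hp.two_le; omega
      calc p * pairSum K u W ≤ p * (Nat.card K * (E * wm)) := Nat.mul_le_mul_left _ hS
        _ = Nat.card K * (p * 1 * E * wm) := by ring
        _ ≤ _ := by
          refine Nat.mul_le_mul_left _ (le_trans ?_ (Nat.le_add_left _ _))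
          gcongr
  · refine Or.inr ?_
    obtain ⟨g, hg, hgM⟩ := SetLike.not_le_iff_exists.1 hKM
    obtain ⟨l, -, hlM⟩ := h.cover g (hK hg) hgM u hu
    set u0 := (g ^ l)⁻¹ * u with hu0
    have hcos : coset K u = coset K u0 := (coset_eq_of_mem (mem_coset.2 (by
      rw [hu0, mul_inv_cancel_right]; exact K.inv_mem (K.pow_mem hg l)))).symm
    set K0 := K ⊓ M
    have hin : (coset K u0).filter (· ∈ M) = coset K0 u0 := by
      ext x
      rw [Finset.mem_filter, mem_coset, mem_coset, Subgroup.mem_inf, M.mul_mem_cancel_right (M.inv_mem hlM)]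
    have hcardK := h.card_eq hp K hK hKM
    have hout_card : ((coset K u0).filter (fun x => x ∉ M)).card = (p - 1) * Nat.card K0 := by
      have e := Finset.card_filter_add_card_filter_not (s := coset K u0) (fun x => x ∈ M)
      rw [hin, card_coset, card_coset, hcardK] at e
      have e' : p * Nat.card K0 = (p - 1) * Nat.card K0 + Nat.card K0 := by
        rw [← Nat.succ_mul, Nat.succ_eq_add_one, Nat.sub_add_cancel hp.one_le]
      change _ = p * Nat.card K0 at e
      linarith
    rw [pairSum, hcos, ← Finset.sum_filter_add_sum_filter_not (coset K u0) (fun x => x ∈ M)]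
    have hO : ∑ x ∈ (coset K u0).filter (fun x => x ∉ M), cent K x * W x ≤
        (p - 1) * Nat.card K0 * (p * E * wm) := by
      rw [← hout_card, ← smul_eq_mul, ← Finset.sum_const]
      refine Finset.sum_le_sum fun x hx => ?_
      rw [Finset.mem_filter] at hx
      have hxP := coset_subset hK hu (hcos ▸ hx.1)
      exact Nat.mul_le_mul ((h.cent_le_mul hp K hK x).trans
        (Nat.mul_le_mul_left _ ((Subgroup.card_le_of_le (inf_le_inf_right _ inf_le_right)).trans (hE x hxP hx.2))))
        (hout x hxP hx.2)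
    have hI : ∑ x ∈ (coset K u0).filter (fun x => x ∈ M), cent K x * W x ≤
        Nat.card K0 * T + (p - 1) * Nat.card K0 * Fx := by
      rw [hin]
      set Kout := (Finset.univ.filter fun k : Perm α => k ∈ K ∧ k ∉ M) with hKout
      have hKc : Kout.card = (p - 1) * Nat.card K0 := by
        have e1 : Nat.card K = (Finset.univ.filter fun k : Perm α => k ∈ K).card := by
          rw [Nat.card_eq_fintype_card]; exact Fintype.card_subtype _
        have e2 : Nat.card K0 = (Finset.univ.filter fun k : Perm α => k ∈ K ∧ k ∈ M).card := by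
          rw [Nat.card_eq_fintype_card, Fintype.card_subtype]
          congr 1; ext k; simp [K0]
        have e := Finset.card_filter_add_card_filter_not (s := (Finset.univ.filter fun k : Perm α => k ∈ K))
          (fun k => k ∈ M)
        rw [Finset.filter_filter, Finset.filter_filter, ← e1, ← e2, hcardK] at e
        have e' : p * Nat.card K0 = (p - 1) * Nat.card K0 + Nat.card K0 := by
          rw [← Nat.succ_mul, Nat.succ_eq_add_one, Nat.sub_add_cancel hp.one_le]
        change _ = p * Nat.card K0 at e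
        rw [hKout]
        linarith
      have hsplit : ∀ x : Perm α, cent K x = cent K0 x + (Kout.filter fun k => Commute x k).card := by
        intro x
        have c1 : cent K x = (Finset.univ.filter fun k : Perm α => k ∈ K ∧ Commute x k).card := by
          rw [cent, Nat.card_eq_fintype_card, Fintype.card_subtype]
          congr 1; ext k
          rw [Finset.mem_filter, Finset.mem_filter, Subgroup.mem_inf, Subgroup.mem_centralizer_singleton_iff]
          exact and_congr Iff.rfl (and_congr Iff.rfl ⟨Eq.symm, Eq.symm⟩)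
        have c2 : cent K0 x = (Finset.univ.filter fun k : Perm α => (k ∈ K ∧ Commute x k) ∧ k ∈ M).card := by
          rw [cent, Nat.card_eq_fintype_card, Fintype.card_subtype]
          congr 1; ext k
          simp [K0, Subgroup.mem_centralizer_singleton_iff, Commute, SemiconjBy, eq_comm, and_comm, and_left_comm]
        have e := Finset.card_filter_add_card_filter_not
          (s := (Finset.univ.filter fun k : Perm α => k ∈ K ∧ Commute x k)) (fun k => k ∈ M)
        rw [Finset.filter_filter, Finset.filter_filter, ← c1, ← c2] at e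
        rw [← e, hKout, Finset.filter_filter]
        congr 2; ext k; simp [and_assoc, and_comm, and_left_comm]
      simp only [hsplit, add_mul, Finset.sum_add_distrib]
      refine Nat.add_le_add (hT K0 inf_le_right u0 hlM) ?_
      calc ∑ x ∈ coset K0 u0, (Kout.filter fun k => Commute x k).card * W x
          = ∑ k ∈ Kout, ∑ x ∈ (coset K0 u0).filter (fun x => Commute x k), W x := by
            simp only [Finset.card_filter, Finset.sum_mul, ite_mul, one_mul, zero_mul, Finset.sum_filter]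
            exact Finset.sum_comm
        _ ≤ ∑ _k ∈ Kout, Fx := by
            refine Finset.sum_le_sum fun k hk => ?_
            rw [hKout, Finset.mem_filter] at hk
            refine le_trans (Finset.sum_le_sum_of_subset fun x hx => ?_) (hFx k (hK hk.2.1) hk.2.2)
            rw [Finset.mem_filter] at hx ⊢
            exact ⟨Finset.mem_univ _, coset_subset inf_le_right hlM hx.1, hx.2⟩
        _ = (p - 1) * Nat.card K0 * Fx := by rw [Finset.sum_const, hKc, smul_eq_mul]
    calc p * (_ + _) ≤ p * ((Nat.card K0 * T + (p - 1) * Nat.card K0 * Fx) +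
          (p - 1) * Nat.card K0 * (p * E * wm)) := Nat.mul_le_mul_left _ (Nat.add_le_add hI hO)
      _ = _ := by rw [hcardK]; ring

end Blocks

end Cfsg.Agent.Perm.ClassBound
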