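import Cfsg.Agent.Lib.Perm.ClassBound.PGroupOdd

/-!
# Several colours, and transfer from a Sylow subgroup
-/

set_option autoImplicit false
set_option linter.unusedSectionVars false

namespace Cfsg.Agent.Perm.ClassBound

open Equiv Finset

section ClassSum

variable {G : Type*} [Group G] [Finite G]

theorem card_conj_fibre (g0 g : G) (hg : IsConj g0 g) :
    Nat.card {k : G // k * g0 * k⁻¹ = g} = Nat.card (Subgroup.centralizer ({g} : Set G)) := by
  obtain ⟨k0, rfl⟩ := isConj_iff.1 hg
  refine Nat.card_congr
    { toFun := fun k => ⟨(k : G) * k0⁻¹, Subgroup.mem_centralizer_singleton_iff.2 ?_⟩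
      invFun := fun h => ⟨(h : G) * k0, ?_⟩
      left_inv := fun k => Subtype.ext (by simp)
      right_inv := fun h => Subtype.ext (by simp) }
  · calc (k : G) * k0⁻¹ * (k0 * g0 * k0⁻¹) = ((k : G) * g0 * (k : G)⁻¹) * k * k0⁻¹ := by group
      _ = _ := by rw [k.2]; group
  · calc (h : G) * k0 * g0 * ((h : G) * k0)⁻¹ = ((h : G) * (k0 * g0 * k0⁻¹)) * (h : G)⁻¹ := by group
      _ = _ := by rw [Subgroup.mem_centralizer_singleton_iff.1 h.2]; group

open scoped Classical in
/-- The centralizer orders over one class sum to the group order. -/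
theorem class_sum [Fintype G] (g0 : G) :
    ∑ g ∈ Finset.univ.filter (fun g => IsConj g0 g), Nat.card (Subgroup.centralizer ({g} : Set G)) =
      Nat.card G := by
  rw [Nat.card_eq_fintype_card, ← Finset.card_univ,
    Finset.card_eq_sum_card_fiberwise (f := fun k => k * g0 * k⁻¹) (t := Finset.univ.filter (fun g => IsConj g0 g))
      (fun k _ => by simp [isConj_iff])]
  refine Finset.sum_congr rfl fun g hg => ?_
  rw [← card_conj_fibre g0 g (Finset.mem_filter.1 hg).2, Nat.card_eq_fintype_card, Fintype.card_subtype]

open scoped Classical in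
theorem class_le [Fintype G] (g0 : G) (W : G → ℕ) (w0 : ℕ) (S : Finset G) (hW : ∀ g, IsConj g0 g → W g = w0)
    (hS : ∀ g, IsConj g0 g → g ∈ S) :
    Nat.card G * w0 ≤ ∑ g ∈ S, Nat.card (Subgroup.centralizer ({g} : Set G)) * W g :=
  calc Nat.card G * w0 = ∑ g ∈ Finset.univ.filter (fun g => IsConj g0 g),
        Nat.card (Subgroup.centralizer ({g} : Set G)) * w0 := by rw [← class_sum g0, Finset.sum_mul]
    _ = ∑ g ∈ Finset.univ.filter (fun g => IsConj g0 g),
        Nat.card (Subgroup.centralizer ({g} : Set G)) * W g :=
        Finset.sum_congr rfl fun g hg => by rw [hW g (Finset.mem_filter.1 hg).2]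
    _ ≤ _ := Finset.sum_le_sum_of_subset fun g hg => hS g (Finset.mem_filter.1 hg).2

open scoped Classical in
/-- Weighted centralizer sums over `p`-elements are controlled by a Sylow subgroup. -/
theorem sylow_sum [Fintype G] {p : ℕ} [Fact p.Prime] (P : Sylow p G) (W : G → ℕ)
    (hW : ∀ g k : G, W (k * g * k⁻¹) = W g) :
    Nat.card (P : Subgroup G) *
        ∑ g ∈ Finset.univ.filter (fun g : G => ∃ k, orderOf g = p ^ k),
          Nat.card (Subgroup.centralizer ({g} : Set G)) * W g ≤
      Nat.card G * ∑ x : ↥(P : Subgroup G),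
        Nat.card (Subgroup.centralizer ({x} : Set ↥(P : Subgroup G))) * W (x : G) := by
  set S := Finset.univ.filter (fun g : G => ∃ k, orderOf g = p ^ k)
  set T := S.image ConjClasses.mk
  refine le_trans ?_ (Nat.mul_le_mul_left _ (Finset.sum_le_sum_of_subset
    (s := Finset.univ.filter fun x : ↥(P : Subgroup G) => ConjClasses.mk (x : G) ∈ T)
    (Finset.filter_subset _ _)))
  rw [← Finset.sum_fiberwise_of_maps_to (s := S) (t := T) (g := ConjClasses.mk)
      (fun g hg => Finset.mem_image_of_mem _ hg),
    ← Finset.sum_fiberwise_of_maps_to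
      (s := Finset.univ.filter fun x : ↥(P : Subgroup G) => ConjClasses.mk (x : G) ∈ T) (t := T)
      (g := fun x => ConjClasses.mk (x : G)) (fun x hx => (Finset.mem_filter.1 hx).2),
    Finset.mul_sum, Finset.mul_sum]
  refine Finset.sum_le_sum fun c hc => ?_
  obtain ⟨g0, hg0, rfl⟩ := Finset.mem_image.1 hc
  obtain ⟨k, hk⟩ := (Finset.mem_filter.1 hg0).2
  have hconst : ∀ g : G, ConjClasses.mk g = ConjClasses.mk g0 → W g = W g0 := by
    intro g hg
    obtain ⟨t, rfl⟩ := isConj_iff.1 (ConjClasses.mk_eq_mk_iff_isConj.1 hg.symm)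
    exact hW g0 t
  obtain ⟨x0, hx0⟩ : ∃ x0 : ↥(P : Subgroup G), ConjClasses.mk (x0 : G) = ConjClasses.mk g0 := by
    have hpg : IsPGroup p (Subgroup.zpowers g0) := IsPGroup.of_card (n := k) (by rw [Nat.card_zpowers, hk])
    obtain ⟨Q, hQ⟩ := hpg.exists_le_sylow
    obtain ⟨t, ht⟩ := MulAction.exists_smul_eq G Q P
    refine ⟨⟨t * g0 * t⁻¹, ?_⟩, ConjClasses.mk_eq_mk_iff_isConj.2 (isConj_iff.2 ⟨t⁻¹, by group⟩)⟩
    rw [← ht, Sylow.coe_subgroup_smul]
    exact ⟨g0, hQ (Subgroup.mem_zpowers g0), rfl⟩
  calc Nat.card (P : Subgroup G) * ∑ g ∈ S.filter (fun g => ConjClasses.mk g = ConjClasses.mk g0),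
        Nat.card (Subgroup.centralizer ({g} : Set G)) * W g
      ≤ Nat.card (P : Subgroup G) * (Nat.card G * W g0) := by
        refine Nat.mul_le_mul_left _ ?_
        calc _ = (∑ g ∈ S.filter (fun g => ConjClasses.mk g = ConjClasses.mk g0),
              Nat.card (Subgroup.centralizer ({g} : Set G))) * W g0 := by
              rw [Finset.sum_mul]
              exact Finset.sum_congr rfl fun g hg => by rw [hconst g (Finset.mem_filter.1 hg).2]
          _ ≤ _ := by
              rw [← class_sum g0]
              refine Nat.mul_le_mul_right _ (Finset.sum_le_sum_of_subset fun g hg => ?_)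
              exact Finset.mem_filter.2 ⟨Finset.mem_univ _,
                ConjClasses.mk_eq_mk_iff_isConj.1 (Finset.mem_filter.1 hg).2.symm⟩
    _ = Nat.card G * (Nat.card (P : Subgroup G) * W g0) := by ring
    _ ≤ _ := by
        refine Nat.mul_le_mul_left _ ?_
        have hmem : ∀ x : ↥(P : Subgroup G), IsConj x0 x →
            ConjClasses.mk (x : G) = ConjClasses.mk g0 := fun x hx => by
          rw [← hx0, ConjClasses.mk_eq_mk_iff_isConj]
          exact ((P : Subgroup G).subtype.map_isConj hx).symm
        exact class_le x0 (fun x => W (x : G)) (W g0) _ (fun x hx => hconst _ (hmem x hx))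
          (fun x hx => Finset.mem_filter.2
            ⟨Finset.mem_filter.2 ⟨Finset.mem_univ _, (hmem x hx).symm ▸ hc⟩, hmem x hx⟩)

end ClassSum

variable {α : Type*} [Fintype α] [DecidableEq α] {ι : Type*} [DecidableEq ι]

/-- The points of a given colour. -/
def part (col : α → ι) (c : ι) : Finset α := Finset.univ.filter fun a => col a = c

theorem mem_part {col : α → ι} {c : ι} {a : α} : a ∈ part col c ↔ col a = c := by simp [part]

/-- All elements of `G` preserve the colours. -/
def Pres (G : Subgroup (Perm α)) (col : α → ι) : Prop := ∀ g ∈ G, ∀ a, col (g a) = col a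

/-- One-colour bounds combine to a bound for several colours. -/
theorem colours_bound {p : ℕ} [hp : Fact p.Prime] (col : α → ι) (w : ι → ℕ → ℕ) (R : ι → ℕ)
    (bound : ∀ c, ∀ P : Subgroup (Perm α), IsPGroup p P → Supp P (part col c) → ∀ K ≤ P, ∀ u ∈ P,
      pairSum K u (fun x => w c (x.support.card / p)) ≤ Nat.card K * R c) (T : Finset ι) :
    ∀ P : Subgroup (Perm α), IsPGroup p P → Supp P (Finset.univ.filter fun a => col a ∈ T) → Pres P col →
      ∀ K ≤ P, ∀ u ∈ P, pairSum K u (fun x => ∏ c ∈ T, w c ((x.support ∩ part col c).card / p)) ≤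
        Nat.card K * ∏ c ∈ T, R c := by
  induction T using Finset.induction with
  | empty =>
    intro P _ hS _ K hK u _
    have hKb : K = ⊥ := (Subgroup.eq_bot_iff_forall K).2 fun g hg =>
      supp_small hS (by simp) (hK hg)
    simpa using pairSum_trivial K u (fun _ => 1) 1 (fun _ _ => le_rfl) hKb
  | @insert c0 T hc0 ih =>
    intro P hP hS hPr K hK u hu
    set s1 := part col c0 with hs1
    set s2 := Finset.univ.filter (fun a => col a ∈ T) with hs2
    have hd : _root_.Disjoint s1 s2 := Finset.disjoint_left.2 fun a h1 h2 => by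
      rw [hs1, mem_part] at h1
      rw [hs2, Finset.mem_filter, h1] at h2
      exact hc0 h2.2
    have hi1 : Inv P s1 := fun g hg a => by rw [hs1, mem_part, mem_part, hPr g hg]
    have hi2 : Inv P s2 := fun g hg a => by simp [hs2, hPr g hg]
    have hS' : Supp P (s1 ∪ s2) := by
      intro g hg a ha
      have := hS g hg ha
      simpa [hs1, hs2, mem_part] using this
    rw [Finset.prod_insert hc0]
    refine pairSum_split_sets hd hS' hi1 hi2 K hK hu _
      (fun a => w c0 (a.support.card / p) * ∏ c ∈ T, R c) _ ?_ ?_
    · intro a ha K' hK' u' hu'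
      have hsa := supp_range_res hi1 a ha
      rw [pairSum_congr (W' := fun y => w c0 (a.support.card / p) * ∏ c ∈ T, w c ((y.support ∩ part col c).card / p))
        (fun y hy => by
          have hsy := supp_range_res hi2 y (coset_subset hK' hu' hy)
          have hdis : Perm.Disjoint a y := Perm.disjoint_iff_disjoint_support.2
            (Finset.disjoint_of_subset_left hsa (Finset.disjoint_of_subset_right hsy hd))
          rw [hdis.support_mul, Finset.prod_insert hc0, Finset.union_inter_distrib_right]
          congr 1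
          · rw [Finset.inter_eq_left.2 hsa, Finset.disjoint_iff_inter_eq_empty.1
              (Finset.disjoint_of_subset_left hsy hd.symm), Finset.union_empty]
          · refine Finset.prod_congr rfl fun c hc => ?_
            have hac : a.support ∩ part col c = ∅ := by
              refine Finset.disjoint_iff_inter_eq_empty.1 (Finset.disjoint_of_subset_left hsa (Finset.disjoint_left.2
                fun b hb hb' => hc0 ?_))
              rw [hs1, mem_part] at hb
              rw [mem_part] at hb'
              rw [← hb, hb']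
              exact hc
            rw [Finset.union_inter_distrib_right, hac, Finset.empty_union])]
      have h := ih _ (isPGroup_range_res hi2 hP) (supp_range_res hi2) (fun g hg b => by
        obtain ⟨g', rfl⟩ := hg
        by_cases hb : b ∈ s2
        · rw [res_mem hi2 g' hb, hPr _ g'.2]
        · rw [res_notMem hi2 g' hb]) K' hK' u' hu'
      have e : pairSum K' u' (fun y => w c0 (a.support.card / p) * ∏ c ∈ T, w c ((y.support ∩ part col c).card / p)) =
          w c0 (a.support.card / p) * pairSum K' u' (fun y => ∏ c ∈ T, w c ((y.support ∩ part col c).card / p)) := by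
        simp only [pairSum, Finset.mul_sum]; exact Finset.sum_congr rfl fun _ _ => by ring
      rw [e, mul_left_comm (Nat.card K')]
      exact Nat.mul_le_mul_left _ h
    · intro K' hK' u' hu'
      have h := bound c0 _ (isPGroup_range_res hi1 hP) (supp_range_res hi1) K' hK' u' hu'
      have e : pairSum K' u' (fun a => w c0 (a.support.card / p) * ∏ c ∈ T, R c) =
          pairSum K' u' (fun a => w c0 (a.support.card / p)) * ∏ c ∈ T, R c := by
        simp only [pairSum, Finset.sum_mul]; exact Finset.sum_congr rfl fun _ _ => by ring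
      rw [e, ← mul_assoc]
      exact Nat.mul_le_mul_right _ h

end Cfsg.Agent.Perm.ClassBound
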