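import Cfsg.Agent.Lib.Perm.ClassBound.Numeric

/-!
# A permutation group of degree `n` has at most `2 ^ (n - 1)` conjugacy classes
-/

set_option autoImplicit false

namespace Cfsg.Agent.Perm.ClassBound

open Equiv Finset

universe u

variable {α : Type u} [Fintype α] [DecidableEq α]

theorem smooth_card (g : Perm α) : Smooth (Fintype.card α) g := fun q hq hd => by
  have h1 : orderOf g ∣ (Fintype.card α).factorial := by
    rw [← Fintype.card_perm, ← Nat.card_eq_fintype_card]
    exact orderOf_dvd_natCard g
  exact (Nat.Prime.dvd_factorial hq).1 (hd.trans h1)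

open scoped Classical in
theorem card_classes_mul (G : Subgroup (Perm α)) :
    Nat.card (ConjClasses G) * Nat.card G = smoothPairs (Fintype.card α) G := by
  haveI : Fintype (ConjClasses G) := Fintype.ofFinite _
  have h1 : ∑ g : G, Nat.card (Subgroup.centralizer ({g} : Set G)) = Nat.card (ConjClasses G) * Nat.card G := by
    rw [← Finset.sum_fiberwise (Finset.univ : Finset G) ConjClasses.mk, Nat.card_eq_fintype_card (α := ConjClasses G),
      ← Finset.card_univ, ← smul_eq_mul, ← Finset.sum_const]
    refine Finset.sum_congr rfl fun c _ => ?_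
    obtain ⟨g0, rfl⟩ := Quotient.exists_rep c
    rw [← class_sum g0]
    refine Finset.sum_congr (Finset.ext fun g => ?_) fun _ _ => rfl
    simp only [Finset.mem_filter, Finset.mem_univ, true_and]
    show ConjClasses.mk g = ConjClasses.mk g0 ↔ _
    rw [ConjClasses.mk_eq_mk_iff_isConj]
    exact ⟨IsConj.symm, IsConj.symm⟩
  rw [← h1, smoothPairs]
  refine Finset.sum_bij (fun g _ => (g : Perm α)) ?_ (fun a _ b _ h => Subtype.ext h) ?_ ?_
  · intro g _
    exact mem_smoothSet.2 ⟨g.2, smooth_card _⟩
  · intro g hg
    exact ⟨⟨g, (mem_smoothSet.1 hg).1⟩, Finset.mem_univ _, rfl⟩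
  · intro g _
    exact cent_subtype G g

/-- The class number bound. -/
theorem card_conjClasses_le (G : Subgroup (Perm α)) :
    Nat.card (ConjClasses G) ≤ 2 ^ (Fintype.card α - 1) := by
  have h := smoothPairs_le (Fintype.card α) α Unit G (fun _ => ()) (fun _ _ _ => rfl)
  rw [← card_classes_mul, Fintype.prod_unique, mul_comm] at h
  have hp : part (fun _ : α => ()) (default : Unit) = Finset.univ := by ext a; simp [part]
  rw [hp, Finset.card_univ] at h
  exact (Nat.le_of_mul_le_mul_left h Nat.card_pos).trans (FF_le_two_pow _)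

end Cfsg.Agent.Perm.ClassBound
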