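import Cfsg.Agent.Lib.Perm.ClassBound.Stage
import Cfsg.Agent.Lib.Perm.ClassBound.Table

/-!
# The numerical bound `FF n n ≤ 2 ^ (n - 1)`
-/

set_option autoImplicit false

namespace Cfsg.Agent.Perm.ClassBound

open Finset

/-- Running evaluation of one stage: `c` is the current coefficient. -/
def rowSum (p k : ℕ) : ℕ → ℕ → ℕ → List ℕ → List ℕ → ℕ
  | 0, _, _, _, _ => 0
  | fuel + 1, i, c, L1, L2 =>
    c * L1.headD 0 * L2.headD 0 + rowSum p k fuel (i + 1) (c * (k - i) * (p - 1) / (i + 1)) (L1.drop p) L2.tail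

/-- The check of one stage on the tables. -/
def checkStage (p : ℕ) (T T' : List ℕ) : Bool :=
  (List.range 200).all fun n =>
    decide (rowSum p (n / p) (n / p + 1) 0 1 (T.take (n + 1)).reverse T ≤ T'.getD n 0)

theorem rowSum_eq (p k : ℕ) (L1 L2 : List ℕ) :
    ∀ fuel i, rowSum p k fuel i (k.choose i * (p - 1) ^ i) (L1.drop (p * i)) (L2.drop i) =
      ∑ j ∈ Finset.range fuel, k.choose (i + j) * (p - 1) ^ (i + j) * (L1.getD (p * (i + j)) 0 * L2.getD (i + j) 0)
  | 0, i => by simp [rowSum]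
  | fuel + 1, i => by
    have hc : k.choose i * (p - 1) ^ i * (k - i) * (p - 1) / (i + 1) = k.choose (i + 1) * (p - 1) ^ (i + 1) := by
      rw [show k.choose i * (p - 1) ^ i * (k - i) * (p - 1) = k.choose i * (k - i) * (p - 1) ^ (i + 1) by
          rw [pow_succ]; ring,
        ← Nat.choose_succ_right_eq, mul_right_comm, Nat.mul_div_cancel _ (Nat.succ_pos i)]
    rw [rowSum, hc, List.drop_drop, List.tail_drop, show p * i + p = p * (i + 1) by ring,
      rowSum_eq p k L1 L2 fuel (i + 1), Finset.sum_range_succ', Nat.add_comm]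
    simp only [add_zero, List.headD_eq_head?_getD, List.head?_drop, List.getD_eq_getElem?_getD]
    rw [mul_assoc (k.choose i * (p - 1) ^ i)]
    congr 1
    exact Finset.sum_congr rfl fun j _ => by rw [show i + 1 + j = i + (j + 1) by ring]

theorem FF_not_prime {m : ℕ} (h : ¬ (m + 3).Prime) : FF (m + 3) = FF (m + 2) := by rw [FF, if_neg h]

theorem FF_prime {m : ℕ} (h : (m + 3).Prime) : FF (m + 3) = stage (m + 3) (FF (m + 2)) := by rw [FF, if_pos h]

theorem stage_check {p : ℕ} (F : ℕ → ℕ) (T T' : List ℕ) (hlen : T.length = 200)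
    (hF : ∀ n < 200, F n ≤ T.getD n 0) (hp : 0 < p) (hchk : checkStage p T T' = true) :
    ∀ n < 200, stage p F n ≤ T'.getD n 0 := by
  intro n hn
  rw [checkStage, List.all_eq_true] at hchk
  refine le_trans ?_ (of_decide_eq_true (hchk n (List.mem_range.2 hn)))
  have h := rowSum_eq p (n / p) (T.take (n + 1)).reverse T (n / p + 1) 0
  simp only [Nat.choose_zero_right, pow_zero, mul_one, mul_zero, List.drop_zero, zero_add] at h
  rw [h, stage, Rsum]
  refine Finset.sum_le_sum fun i hi => Nat.mul_le_mul_left _ ?_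
  have hi' : i ≤ n / p := Nat.lt_succ_iff.1 (Finset.mem_range.1 hi)
  have hpi : p * i ≤ n := (Nat.mul_le_mul_left p hi').trans (Nat.mul_div_le n p)
  have hin : i ≤ n := hi'.trans (Nat.div_le_self n p)
  refine Nat.mul_le_mul ((hF _ (by omega)).trans (le_of_eq ?_)) (hF i (by omega))
  have hl : (T.take (n + 1)).length = n + 1 := by rw [List.length_take, hlen]; omega
  rw [List.getD_eq_getElem?_getD, List.getD_eq_getElem?_getD,
    List.getElem?_reverse (by rw [hl]; omega), hl, List.getElem?_take_of_lt (by omega)]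
  congr 2

theorem tab2_ok : ∀ n < 200, FF 2 n ≤ tab2.getD n 0 := by
  have h : ((List.range 200).all fun n => decide (f2 n ≤ tab2.getD n 0)) = true := by decide +kernel
  intro n hn
  exact of_decide_eq_true (List.all_eq_true.1 h n (List.mem_range.2 hn))

theorem tab3_ok : ∀ n < 200, FF 3 n ≤ tab3.getD n 0 := by
  rw [FF_prime (m := 0) (by norm_num)]
  exact stage_check _ tab2 tab3 (by decide +kernel) tab2_ok (by norm_num) (by decide +kernel)

theorem tab5_ok : ∀ n < 200, FF 5 n ≤ tab5.getD n 0 := by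
  rw [FF_prime (m := 2) (by norm_num), FF_not_prime (m := 1) (by norm_num)]
  exact stage_check _ tab3 tab5 (by decide +kernel) tab3_ok (by norm_num) (by decide +kernel)

theorem tab7_ok : ∀ n < 200, FF 7 n ≤ tab7.getD n 0 := by
  rw [FF_prime (m := 4) (by norm_num), FF_not_prime (m := 3) (by norm_num)]
  exact stage_check _ tab5 tab7 (by decide +kernel) tab5_ok (by norm_num) (by decide +kernel)

theorem tab11_ok : ∀ n < 200, FF 11 n ≤ tab11.getD n 0 := by
  rw [FF_prime (m := 8) (by norm_num), FF_not_prime (m := 7) (by norm_num), FF_not_prime (m := 6) (by norm_num),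
    FF_not_prime (m := 5) (by norm_num)]
  exact stage_check _ tab7 tab11 (by decide +kernel) tab7_ok (by norm_num) (by decide +kernel)

theorem tab13_ok : ∀ n < 200, FF 13 n ≤ tab13.getD n 0 := by
  rw [FF_prime (m := 10) (by norm_num), FF_not_prime (m := 9) (by norm_num)]
  exact stage_check _ tab11 tab13 (by decide +kernel) tab11_ok (by norm_num) (by decide +kernel)

theorem tab13_small : ∀ n < 200, 8192 * tab13.getD n 0 ≤ 8192 * 2 ^ (n - 1) ∧
    (17 ≤ n → 8192 * tab13.getD n 0 + 800 * 2 ^ n ≤ 8192 * 2 ^ (n - 1)) := by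
  have h : ((List.range 200).all fun n => decide (8192 * tab13.getD n 0 ≤ 8192 * 2 ^ (n - 1) ∧
      (17 ≤ n → 8192 * tab13.getD n 0 + 800 * 2 ^ n ≤ 8192 * 2 ^ (n - 1)))) = true := by decide +kernel
  intro n hn
  exact of_decide_eq_true (List.all_eq_true.1 h n (List.mem_range.2 hn))

theorem FF_zero : ∀ m, FF m 0 = 1
  | 0 => rfl
  | 1 => rfl
  | 2 => rfl
  | m + 3 => by
    by_cases h : (m + 3).Prime
    · simp [FF_prime h, stage, Rsum, FF_zero (m + 2)]
    · rw [FF_not_prime h, FF_zero]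

theorem f2_pos (n : ℕ) : 1 ≤ f2 n :=
  (show 1 ≤ f2 0 by decide).trans (f2_mono (Nat.zero_le n))

theorem FF_pos : ∀ m n, 1 ≤ FF m n
  | 0, _ => le_rfl
  | 1, _ => le_rfl
  | 2, n => f2_pos n
  | m + 3, n => (FF_zero (m + 3) ▸ FF_mono (m + 3) (Nat.zero_le n) : 1 ≤ FF (m + 3) n)

theorem FF_le_succ (m n : ℕ) : FF m n ≤ FF (m + 1) n := by
  match m with
  | 0 => exact le_rfl
  | 1 => exact f2_pos n
  | m + 2 =>
    by_cases h : (m + 3).Prime
    · rw [FF_prime h, stage, Rsum]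
      refine le_trans (le_of_eq ?_) (Finset.single_le_sum (fun _ _ => Nat.zero_le _)
        (Finset.mem_range.2 (Nat.succ_pos _) : 0 ∈ _))
      simp [FF_zero]
    · rw [FF_not_prime h]

theorem FF_le_of_le {m m' : ℕ} (h : m ≤ m') (n : ℕ) : FF m n ≤ FF m' n := by
  induction h with
  | refl => exact le_rfl
  | step _ ih => exact ih.trans (FF_le_succ _ n)

theorem geom_le (y : ℚ) (h0 : 0 ≤ y) (h : y ≤ 1 / 2) : ∀ k, ∑ i ∈ Finset.range k, y ^ (i + 1) ≤ 2 * y
  | 0 => by simpa using h0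
  | k + 1 => by
    rw [Finset.sum_range_succ']
    have ih := geom_le y h0 h k
    have e : ∑ i ∈ Finset.range k, y ^ (i + 1 + 1) = y * ∑ i ∈ Finset.range k, y ^ (i + 1) := by
      rw [Finset.mul_sum]; exact Finset.sum_congr rfl fun i _ => by ring
    rw [e, zero_add, pow_one]
    nlinarith [mul_le_mul_of_nonneg_left ih h0, mul_le_mul_of_nonneg_left h h0]

theorem stage_large {p n : ℕ} (F : ℕ → ℕ) (hp : 17 ≤ p) (hn : n < 200) (hF0 : F 0 = 1) (hF : ∀ i ≤ n, F i ≤ 2 ^ i) :
    (stage p F n : ℚ) ≤ F n + 800 * 2 ^ n / 2 ^ p := by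
  set k := n / p
  set y : ℚ := (k * (p - 1 : ℕ) : ℕ) / 2 ^ (p - 1) with hy
  have hy0 : 0 ≤ y := by positivity
  have hk : k * (p - 1) ≤ 200 := by
    have : k * p ≤ n := Nat.div_mul_le_self n p
    have : k * (p - 1) ≤ k * p := Nat.mul_le_mul_left _ (Nat.sub_le _ _)
    omega
  have hk' : ((k * (p - 1) : ℕ) : ℚ) ≤ 200 := by exact_mod_cast hk
  have h2p : (2 : ℚ) ^ p = 2 * 2 ^ (p - 1) := by
    rw [← pow_succ']; congr 1; omega
  have hbig : (400 : ℚ) ≤ 2 ^ (p - 1) :=
    le_trans (by norm_num) (pow_le_pow_right₀ (by norm_num : (1 : ℚ) ≤ 2) (show 16 ≤ p - 1 by omega))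
  have hy2 : y ≤ 1 / 2 := by
    rw [hy, div_le_iff₀ (by positivity)]; linarith
  have hy3 : y ≤ 400 / 2 ^ p := by
    rw [hy, h2p, div_le_div_iff₀ (by positivity) (by positivity)]
    nlinarith
  rw [stage, Rsum, Finset.sum_range_succ', Nat.choose_zero_right, pow_zero, mul_zero, Nat.sub_zero, hF0]
  push_cast
  simp only [one_mul, mul_one]
  have hterm : ∀ i ∈ Finset.range k, (((k.choose (i + 1) : ℕ) : ℚ) * ((p - 1 : ℕ) : ℚ) ^ (i + 1) *
      ((F (n - p * (i + 1)) : ℚ) * F (i + 1))) ≤ 2 ^ n * y ^ (i + 1) := by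
    intro i hi
    have hpi : p * (i + 1) ≤ n :=
      (Nat.mul_le_mul_left p (Finset.mem_range.1 hi)).trans (Nat.mul_div_le n p)
    have h1 : F (n - p * (i + 1)) * F (i + 1) ≤ 2 ^ (n - (p - 1) * (i + 1)) := by
      have hin : i + 1 ≤ n := le_trans (Nat.le_mul_of_pos_left _ (by omega)) hpi
      refine (Nat.mul_le_mul (hF _ (Nat.sub_le _ _)) (hF _ hin)).trans ?_
      rw [← pow_add]
      refine Nat.pow_le_pow_right (by norm_num) ?_
      have : (p - 1) * (i + 1) + (i + 1) = p * (i + 1) := by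
        rw [← Nat.succ_mul, Nat.succ_eq_add_one, Nat.sub_add_cancel (by omega)]
      omega
    have h1' : (F (n - p * (i + 1)) : ℚ) * F (i + 1) ≤ 2 ^ (n - (p - 1) * (i + 1)) := by exact_mod_cast h1
    have h2 : ((k.choose (i + 1) : ℕ) : ℚ) ≤ (k : ℚ) ^ (i + 1) := by exact_mod_cast Nat.choose_le_pow k (i + 1)
    have h3 : (2 : ℚ) ^ n = 2 ^ (n - (p - 1) * (i + 1)) * (2 ^ (p - 1)) ^ (i + 1) := by
      rw [← pow_mul, ← pow_add]
      congr 1
      have : (p - 1) * (i + 1) ≤ p * (i + 1) := Nat.mul_le_mul_right _ (Nat.sub_le _ _)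
      omega
    calc _ ≤ (k : ℚ) ^ (i + 1) * ((p - 1 : ℕ) : ℚ) ^ (i + 1) * 2 ^ (n - (p - 1) * (i + 1)) := by gcongr
      _ = 2 ^ n * y ^ (i + 1) := by
        rw [hy, h3, div_pow, Nat.cast_mul, mul_pow]
        field_simp
  have hsum := (Finset.sum_le_sum hterm).trans_eq (Finset.mul_sum _ _ _).symm
  have hg := geom_le y hy0 hy2 k
  have h2n : (0 : ℚ) ≤ 2 ^ n := by positivity
  calc _ ≤ 2 ^ n * (2 * y) + (F n : ℚ) := add_le_add_left (hsum.trans (mul_le_mul_of_nonneg_left hg h2n)) _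
    _ ≤ 2 ^ n * (2 * (400 / 2 ^ p)) + (F n : ℚ) := by gcongr
    _ = _ := by ring

theorem FF_mid : ∀ m, 13 ≤ m → ∀ n < 200, FF m n ≤ 2 ^ (n - 1) ∧
    (n < 17 → FF m n ≤ tab13.getD n 0) ∧
    (FF m n : ℚ) ≤ (tab13.getD n 0 : ℕ) + 800 * 2 ^ n * (1 / 2 ^ 13 - 1 / 2 ^ m) := by
  intro m hm
  induction m, hm using Nat.le_induction with
  | base =>
    intro n hn
    have h := tab13_ok n hn
    refine ⟨h.trans (Nat.le_of_mul_le_mul_left (tab13_small n hn).1 (by norm_num)), fun _ => h, ?_⟩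
    rw [sub_self, mul_zero, add_zero]
    exact_mod_cast h
  | succ m hm ih =>
    intro n hn
    obtain ⟨j, rfl⟩ : ∃ j, m = j + 2 := ⟨m - 2, by omega⟩
    have hfin : ∀ f : ℕ, (n < 17 → f ≤ tab13.getD n 0) →
        (f : ℚ) ≤ (tab13.getD n 0 : ℕ) + 800 * 2 ^ n * (1 / 2 ^ 13 - 1 / 2 ^ (j + 2 + 1)) → f ≤ 2 ^ (n - 1) := by
      intro f h1 h2
      rcases Nat.lt_or_ge n 17 with hn17 | hn17
      · exact (h1 hn17).trans (Nat.le_of_mul_le_mul_left (tab13_small n hn).1 (by norm_num))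
      · refine Nat.le_of_mul_le_mul_left ?_ (by norm_num : 0 < 8192)
        refine le_trans ?_ ((tab13_small n hn).2 hn17)
        have h3 : (0 : ℚ) ≤ 800 * 2 ^ n * (1 / 2 ^ (j + 2 + 1)) := by positivity
        have : ((8192 * f : ℕ) : ℚ) ≤ ((8192 * tab13.getD n 0 + 800 * 2 ^ n : ℕ) : ℚ) := by
          push_cast
          linarith
        exact_mod_cast this
    have hle : (800 : ℚ) * 2 ^ n * (1 / 2 ^ 13 - 1 / 2 ^ (j + 2)) ≤
        800 * 2 ^ n * (1 / 2 ^ 13 - 1 / 2 ^ (j + 2 + 1)) := by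
      refine mul_le_mul_of_nonneg_left ?_ (by positivity)
      rw [pow_succ (2 : ℚ) (j + 2), ← div_div]
      have : (0 : ℚ) ≤ 1 / 2 ^ (j + 2) := by positivity
      linarith
    obtain ⟨-, hsmall, hq⟩ := ih n hn
    by_cases hp : (j + 3).Prime
    · have h17 : 17 ≤ j + 3 := by
        by_contra h
        have hj1 : 11 ≤ j := by omega
        have hj2 : j ≤ 13 := by omega
        interval_cases j <;> norm_num at hp
      have hst : (n < 17 → FF (j + 3) n ≤ tab13.getD n 0) ∧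
          (FF (j + 3) n : ℚ) ≤ (tab13.getD n 0 : ℕ) + 800 * 2 ^ n * (1 / 2 ^ 13 - 1 / 2 ^ (j + 2 + 1)) := by
        rw [FF_prime hp]
        constructor
        · intro hn17
          rw [stage, Rsum, Nat.div_eq_of_lt (by omega : n < j + 3), zero_add, Finset.sum_range_one]
          simpa [FF_zero] using hsmall hn17
        · refine (stage_large (FF (j + 2)) h17 hn (FF_zero _) fun i hi => ((ih i (by omega)).1).trans
            (Nat.pow_le_pow_right (by norm_num) (Nat.sub_le _ _))).trans ?_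
          have e : (800 : ℚ) * 2 ^ n * (1 / 2 ^ 13 - 1 / 2 ^ (j + 2 + 1)) =
              800 * 2 ^ n * (1 / 2 ^ 13 - 1 / 2 ^ (j + 2)) + 800 * 2 ^ n / 2 ^ (j + 3) := by
            rw [show j + 2 + 1 = j + 3 from rfl, pow_succ (2 : ℚ) (j + 2)]
            field_simp
            ring
          rw [e]
          linarith
      exact ⟨hfin _ hst.1 hst.2, hst⟩
    · rw [show j + 2 + 1 = j + 3 from rfl, FF_not_prime hp]
      exact ⟨hfin _ hsmall (hq.trans (by linarith)), hsmall, hq.trans (by linarith)⟩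

/-- The exponential bound for stage `m`. -/
def cst (m : ℕ) : ℚ :=
  if m < 2 then 1 else if m < 3 then 149535 / 100000 else if m < 5 then 185028 / 100000
  else if m < 7 then 196220 / 100000 else if m < 11 then 199042 / 100000 else if m < 13 then 199227 / 100000
  else if m < 17 then 199274 / 100000 else 199300 / 100000 - 22 / 100000 * (3 / 4 : ℚ) ^ (m - 17)

theorem cst_bounds (m : ℕ) : 1 ≤ cst m ∧ cst m ≤ 1993 / 1000 := by
  unfold cst
  split_ifs
  all_goals first
    | (refine ⟨?_, ?_⟩ <;> norm_num; done)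
    | skip
  have h1 : (3 / 4 : ℚ) ^ (m - 17) ≤ 1 := pow_le_one₀ (by norm_num) (by norm_num)
  have h2 : (0 : ℚ) ≤ (3 / 4 : ℚ) ^ (m - 17) := by positivity
  constructor <;> linarith

theorem cst_step (m : ℕ) (hm : 17 ≤ m) :
    cst m ^ (m + 1) + m * cst m ≤ cst (m + 1) ^ (m + 1) ∧ cst m ≤ cst (m + 1) := by
  obtain ⟨i, rfl⟩ : ∃ i, m = i + 17 := ⟨m - 17, by omega⟩
  have hc : cst (i + 17) = 199300 / 100000 - 22 / 100000 * (3 / 4 : ℚ) ^ i := by
    simp only [cst, show ¬ i + 17 < 2 by omega, show ¬ i + 17 < 3 by omega, show ¬ i + 17 < 5 by omega,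
      show ¬ i + 17 < 7 by omega, show ¬ i + 17 < 11 by omega, show ¬ i + 17 < 13 by omega,
      show ¬ i + 17 < 17 by omega, if_false, show i + 17 - 17 = i by omega]
  have hc' : cst (i + 17 + 1) = cst (i + 17) + 55 / 1000000 * (3 / 4 : ℚ) ^ i := by
    rw [hc]
    simp only [cst, show ¬ i + 17 + 1 < 2 by omega, show ¬ i + 17 + 1 < 3 by omega, show ¬ i + 17 + 1 < 5 by omega,
      show ¬ i + 17 + 1 < 7 by omega, show ¬ i + 17 + 1 < 11 by omega, show ¬ i + 17 + 1 < 13 by omega,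
      show ¬ i + 17 + 1 < 17 by omega, if_false, show i + 17 + 1 - 17 = i + 1 by omega, pow_succ]
    ring
  set c := cst (i + 17)
  set d := (55 / 1000000 : ℚ) * (3 / 4 : ℚ) ^ i with hd
  have hd0 : 0 ≤ d := by positivity
  have hc199 : (199 / 100 : ℚ) ≤ c := by
    have h1 : (3 / 4 : ℚ) ^ i ≤ 1 := pow_le_one₀ (by norm_num) (by norm_num)
    rw [hc]; linarith
  have hc0 : 0 ≤ c := by linarith
  rw [hc']
  refine ⟨?_, by linarith⟩
  have hkey : 1 ≤ c ^ (i + 16) * d := by
    have h1 : (199 / 100 : ℚ) ^ (i + 16) ≤ c ^ (i + 16) := pow_le_pow_left₀ (by norm_num) hc199 _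
    have h2 : (1 : ℚ) ≤ (199 / 100 * (3 / 4) : ℚ) ^ i := one_le_pow₀ (by norm_num)
    calc (1 : ℚ) ≤ (199 / 100) ^ 16 * (55 / 1000000) * 1 := by norm_num
      _ ≤ (199 / 100) ^ 16 * (55 / 1000000) * (199 / 100 * (3 / 4) : ℚ) ^ i := by gcongr
      _ = (199 / 100 : ℚ) ^ (i + 16) * d := by rw [hd, mul_pow, pow_add]; ring
      _ ≤ _ := mul_le_mul_of_nonneg_right h1 hd0
  have hb : c ^ (i + 17 + 1) + ((i + 17 + 1 : ℕ) : ℚ) * (c ^ (i + 17) * d) ≤ (c + d) ^ (i + 17 + 1) := by
    rcases eq_or_lt_of_le hc0 with h | h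
    · linarith
    have h1 := one_add_mul_le_pow (a := d / c) (by linarith [div_nonneg hd0 hc0]) (i + 17 + 1)
    have h2 := mul_le_mul_of_nonneg_left h1 (pow_nonneg hc0 (i + 17 + 1))
    rw [← mul_pow, mul_add, mul_one, mul_add, mul_one, mul_div_cancel₀ _ h.ne'] at h2
    refine le_trans (le_of_eq ?_) h2
    rw [pow_succ c (i + 17)]
    field_simp
  refine le_trans ?_ hb
  push_cast
  have h3 : c ≤ c ^ (i + 17) * d := by
    rw [show i + 17 = i + 16 + 1 from rfl, pow_succ, mul_right_comm]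
    nlinarith
  nlinarith

theorem stage_pow {p : ℕ} (F : ℕ → ℕ) (a b : ℚ) (ha : 1 ≤ a) (hab : a ≤ b)
    (hp : a ^ p + ((p - 1 : ℕ) : ℚ) * a ≤ b ^ p) (hF : ∀ n, (F n : ℚ) ≤ a ^ n) (n : ℕ) :
    (stage p F n : ℚ) ≤ b ^ n := by
  have ha0 : 0 ≤ a := by linarith
  set k := n / p
  have hn : n = p * k + n % p := (Nat.div_add_mod n p).symm
  have hsum : ((p - 1 : ℕ) * a + a ^ p) ^ k * a ^ (n % p) =
      ∑ i ∈ Finset.range (k + 1), ((k.choose i : ℕ) : ℚ) * ((p - 1 : ℕ) : ℚ) ^ i * (a ^ (n - p * i) * a ^ i) := by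
    rw [add_pow, Finset.sum_mul]
    refine Finset.sum_congr rfl fun i hi => ?_
    have hik : i ≤ k := Nat.lt_succ_iff.1 (Finset.mem_range.1 hi)
    have e : p * (k - i) + n % p = n - p * i := by
      have := Nat.mul_le_mul_left p hik
      rw [Nat.mul_sub]; omega
    rw [mul_pow, ← pow_mul, ← e, pow_add]
    ring
  calc (stage p F n : ℚ) ≤ ∑ i ∈ Finset.range (k + 1),
        ((k.choose i : ℕ) : ℚ) * ((p - 1 : ℕ) : ℚ) ^ i * (a ^ (n - p * i) * a ^ i) := by
        rw [stage, Rsum]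
        push_cast
        refine Finset.sum_le_sum fun i _ => ?_
        refine mul_le_mul_of_nonneg_left ?_ (by positivity)
        exact mul_le_mul (hF _) (hF _) (by positivity) (by positivity)
    _ = ((p - 1 : ℕ) * a + a ^ p) ^ k * a ^ (n % p) := hsum.symm
    _ ≤ (b ^ p) ^ k * b ^ (n % p) := by
        have hb0 : 0 ≤ b := by linarith
        refine mul_le_mul (pow_le_pow_left₀ (by positivity) (by linarith) _) (pow_le_pow_left₀ ha0 hab _)
          (by positivity) (by positivity)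
    _ = b ^ n := by rw [← pow_mul, ← pow_add, ← hn]

theorem f2_pow (n : ℕ) : (f2 n : ℚ) ≤ (149535 / 100000 : ℚ) ^ n := by
  induction n using Nat.strong_induction_on with
  | _ n ih =>
    rcases Nat.lt_or_ge n 4 with h | h
    · interval_cases n <;> norm_num [f2]
    · obtain ⟨j, rfl⟩ : ∃ j, n = j + 4 := ⟨n - 4, by omega⟩
      have h4 : f2 (j + 4) = 5 * f2 j := by
        rw [f2, f2, Nat.add_div_right j (by norm_num), Nat.add_mod_right, pow_succ]; ring
      rw [h4, pow_add, mul_comm ((149535 / 100000 : ℚ) ^ j)]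
      push_cast
      exact mul_le_mul (by norm_num) (ih j (by omega)) (by positivity) (by norm_num)

theorem FF_pow : ∀ m n, (FF m n : ℚ) ≤ cst m ^ n := by
  intro m
  induction m using Nat.strong_induction_on with
  | _ m ih =>
    intro n
    match m with
    | 0 => simp [FF, cst]
    | 1 => simp [FF, cst]
    | 2 => simpa [cst, FF] using f2_pow n
    | j + 3 =>
      have hstep : cst (j + 2) ≤ cst (j + 3) ∧ ((j + 3).Prime →
          cst (j + 2) ^ (j + 3) + ((j + 3 - 1 : ℕ) : ℚ) * cst (j + 2) ≤ cst (j + 3) ^ (j + 3)) := by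
        rcases Nat.lt_or_ge j 15 with hj | hj
        · interval_cases j <;> norm_num [cst]
        · obtain ⟨h1, h2⟩ := cst_step (j + 2) (by omega)
          exact ⟨h2, fun _ => h1⟩
      by_cases hp : (j + 3).Prime
      · rw [FF_prime hp]
        exact stage_pow _ _ _ (cst_bounds _).1 hstep.1 (hstep.2 hp) (ih (j + 2) (by omega)) n
      · rw [FF_not_prime hp]
        exact (ih (j + 2) (by omega) n).trans
          (pow_le_pow_left₀ (le_trans zero_le_one (cst_bounds _).1) hstep.1 n)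

theorem two_div_pow {n : ℕ} (hn : 200 ≤ n) : (1993 / 1000 : ℚ) ^ n ≤ 2 ^ (n - 1) := by
  induction n, hn using Nat.le_induction with
  | base => norm_num
  | succ n hn ih =>
    rw [show n + 1 - 1 = n - 1 + 1 by omega, pow_succ, pow_succ]
    exact mul_le_mul ih (by norm_num) (by norm_num) (by positivity)

/-- The numerical bound. -/
theorem FF_le_two_pow (n : ℕ) : FF n n ≤ 2 ^ (n - 1) := by
  rcases Nat.lt_or_ge n 200 with hn | hn
  · exact (FF_le_of_le (le_max_left n 13) n).trans (FF_mid _ (le_max_right _ _) n hn).1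
  · have h : (FF n n : ℚ) ≤ ((2 ^ (n - 1) : ℕ) : ℚ) := by
      push_cast
      exact (FF_pow n n).trans ((pow_le_pow_left₀ (le_trans zero_le_one (cst_bounds n).1) (cst_bounds n).2 n).trans
        (two_div_pow hn))
    exact_mod_cast h

end Cfsg.Agent.Perm.ClassBound
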