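import Cfsg.Agent.Lib.Perm.ClassBound.Blocks
import Cfsg.Agent.Lib.Solv.PGroupPhi

/-!
# Weighted class bounds for permutation `p`-groups
-/

set_option autoImplicit false
set_option linter.unusedSectionVars false

namespace Cfsg.Agent.Perm.ClassBound

open Equiv Finset

variable {α : Type*} [Fintype α] [DecidableEq α]

/-- The bound for the number of classes of a `2`-group of degree `n`. -/
def f2 (n : ℕ) : ℕ := 5 ^ (n / 4) * if n % 4 < 2 then 1 else 2

theorem f2_mono {m n : ℕ} (h : m ≤ n) : f2 m ≤ f2 n := by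
  induction h with
  | refl => exact le_rfl
  | @step k _ ih =>
    refine ih.trans ?_
    rw [f2, f2]
    rcases (by omega : k % 4 = 0 ∨ k % 4 = 1 ∨ k % 4 = 2 ∨ k % 4 = 3) with h | h | h | h <;>
      [rw [show k.succ / 4 = k / 4 by omega]; rw [show k.succ / 4 = k / 4 by omega];
       rw [show k.succ / 4 = k / 4 by omega]; rw [show k.succ / 4 = k / 4 + 1 by omega, pow_succ]] <;>
      simp [h, show k.succ % 4 = (k % 4 + 1) % 4 by omega] <;> omega

theorem f2_mul_le (a b : ℕ) : f2 a * f2 b ≤ f2 (a + b) := by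
  rw [f2, f2, f2]
  have key : ∀ r s : ℕ, r < 4 → s < 4 →
      (if r < 2 then 1 else 2) * (if s < 2 then 1 else 2) ≤
        5 ^ ((r + s) / 4) * (if (r + s) % 4 < 2 then 1 else 2) := by
    intro r s hr hs
    interval_cases r <;> interval_cases s <;> decide
  have h := key (a % 4) (b % 4) (Nat.mod_lt _ (by norm_num)) (Nat.mod_lt _ (by norm_num))
  rw [show (a + b) / 4 = a / 4 + b / 4 + (a % 4 + b % 4) / 4 by omega,
    show (a + b) % 4 = (a % 4 + b % 4) % 4 by omega, pow_add, pow_add]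
  calc 5 ^ (a / 4) * (if a % 4 < 2 then 1 else 2) * (5 ^ (b / 4) * if b % 4 < 2 then 1 else 2)
      = 5 ^ (a / 4) * 5 ^ (b / 4) * ((if a % 4 < 2 then 1 else 2) * (if b % 4 < 2 then 1 else 2)) := by ring
    _ ≤ _ := Nat.mul_le_mul_left _ h
    _ = _ := by ring

theorem two_ineq (e : ℕ) :
    f2 (2 ^ e) * f2 (2 ^ e) + 3 * 2 ^ (2 ^ e - 1) ≤ 2 * f2 (2 * 2 ^ e) := by
  rcases e with _ | _ | e
  · decide
  · decide
  · set j := 2 ^ e with hj
    have hj1 : 1 ≤ j := Nat.one_le_two_pow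
    rw [show 2 ^ (e + 1 + 1) = 4 * j by rw [hj]; ring]
    rw [f2, f2, show 4 * j / 4 = j by omega, show 4 * j % 4 = 0 by omega,
      show 2 * (4 * j) / 4 = 2 * j by omega, show 2 * (4 * j) % 4 = 0 by omega]
    simp only [Nat.ofNat_pos, ↓reduceIte, mul_one]
    rw [two_mul j, pow_add]
    suffices h : 3 * 2 ^ (4 * j - 1) ≤ 5 ^ j * 5 ^ j by omega
    obtain ⟨i, hi⟩ : ∃ i, j = i + 1 := ⟨j - 1, by omega⟩
    rw [hi]
    rw [← mul_pow, show 4 * (i + 1) - 1 = 4 * i + 3 by omega, pow_add, pow_mul, pow_succ (5 * 5)]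
    have : (2 ^ 4) ^ i ≤ (5 * 5) ^ i := Nat.pow_le_pow_left (by norm_num) _
    omega

/-- Permutations supported in `A`. -/
def suppSub (A : Finset α) : Subgroup (Perm α) where
  carrier := {g | ∀ a, a ∉ A → g a = a}
  one_mem' := fun a _ => rfl
  mul_mem' := by
    intro g h hg hh a ha
    rw [Perm.mul_apply, hh a ha, hg a ha]
  inv_mem' := by
    intro g hg a ha
    rw [Perm.inv_def, Equiv.symm_apply_eq, hg a ha]

open scoped Classical in
theorem exists_blocks {p : ℕ} [hp : Fact p.Prime] {P : Subgroup (Perm α)} {s : Finset α} (hP : IsPGroup p P)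
    (hS : Supp P s) {a : α} (ha : a ∈ s) (htr : ∀ b ∈ s, ∃ g ∈ P, g a = b) (hs : 1 < s.card) :
    ∃ (M : Subgroup (Perm α)) (B : Finset α) (e : ℕ) (x : Perm α),
      Blocks p P M s B ∧ a ∈ B ∧ B.card = p ^ e ∧ x ∈ P ∧ x ∉ M := by
  set H : Subgroup P := MulAction.stabilizer P a with hH
  have hHne : H ≠ ⊤ := by
    intro h
    obtain ⟨b, hb, hba⟩ := Finset.exists_mem_ne hs a
    obtain ⟨g, hg, rfl⟩ := htr b hb
    exact hba (h.symm ▸ Subgroup.mem_top (⟨g, hg⟩ : P) : (⟨g, hg⟩ : P) ∈ H)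
  obtain ⟨M0, hM0, hHM⟩ := (eq_top_or_exists_le_coatom H).resolve_left hHne
  have hn := Cfsg.Agent.Solv.coatom_normal hP hM0
  have hidx := Cfsg.Agent.Solv.coatom_index hP hM0
  haveI : M0.Normal := hn
  set B : Finset α := s.filter (fun b => ∃ h : P, h ∈ M0 ∧ (h : Perm α) a = b) with hB
  have hBmem : ∀ b, b ∈ B ↔ ∃ h : P, h ∈ M0 ∧ (h : Perm α) a = b := by
    intro b
    rw [hB, Finset.mem_filter, and_iff_right_iff_imp]
    rintro ⟨h, -, rfl⟩
    exact (hS.inv _ h.2 a).2 ha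
  have hcardQ : Nat.card (P ⧸ M0) = p := by rw [← Subgroup.index_eq_card, hidx]
  obtain ⟨x0, hx0⟩ : ∃ x : P, x ∉ M0 := by
    by_contra h
    push Not at h
    exact hM0.1 (eq_top_iff.2 fun x _ => h x)
  have hord : ∀ x : P, x ∉ M0 → orderOf (QuotientGroup.mk' M0 x) = p := fun x hx =>
    orderOf_eq_prime (hcardQ ▸ pow_card_eq_one') fun h => hx ((QuotientGroup.eq_one_iff x).1 h)
  refine ⟨M0.map P.subtype, B, ?_⟩
  have hlift : ∀ {x : Perm α} (hx : x ∈ P), x ∈ M0.map P.subtype ↔ (⟨x, hx⟩ : P) ∈ M0 := by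
    intro x hx
    constructor
    · rintro ⟨y, hy, rfl⟩; exact hy
    · intro h; exact ⟨_, h, rfl⟩
  obtain ⟨e, he⟩ : ∃ e, B.card = p ^ e := by
    have hM0p : IsPGroup p M0 := hP.to_subgroup M0
    obtain ⟨e, he⟩ := hM0p.card_orbit a
    refine ⟨e, ?_⟩
    rw [← he, ← Nat.card_eq_finsetCard]
    refine Nat.card_congr (Equiv.subtypeEquivRight fun b => ?_)
    rw [hBmem]
    constructor
    · rintro ⟨h, hh, rfl⟩; exact ⟨⟨h, hh⟩, rfl⟩
    · rintro ⟨h, rfl⟩; exact ⟨h, h.2, rfl⟩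
  refine ⟨e, x0, ⟨Subgroup.map_subtype_le _, ?_, ?_, ?_, hS, ?_, ?_, ?_, ?_⟩,
    (hBmem a).2 ⟨1, M0.one_mem, rfl⟩, he, x0.2, fun h => hx0 ((hlift x0.2).1 h)⟩
  · intro g hg h hh
    obtain ⟨h', hh', rfl⟩ := hh
    exact ⟨⟨g, hg⟩ * h' * (⟨g, hg⟩ : P)⁻¹, hn.conj_mem _ hh' _, rfl⟩
  · intro x hx hxM g hg
    have hx' : (⟨x, hx⟩ : P) ∉ M0 := fun h => hxM ((hlift hx).2 h)
    have hmem : QuotientGroup.mk' M0 (⟨g, hg⟩ : P) ∈ Subgroup.zpowers (QuotientGroup.mk' M0 (⟨x, hx⟩ : P)) := by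
      have : Subgroup.zpowers (QuotientGroup.mk' M0 (⟨x, hx⟩ : P)) = ⊤ :=
        Subgroup.eq_top_of_card_eq _ (by rw [Nat.card_zpowers, hord _ hx', hcardQ])
      rw [this]; trivial
    rw [mem_zpowers_iff_mem_range_orderOf, Finset.mem_image] at hmem
    obtain ⟨l, hl, hlg⟩ := hmem
    rw [Finset.mem_range, hord _ hx'] at hl
    refine ⟨l, hl, ⟨((⟨x, hx⟩ : P) ^ l)⁻¹ * ⟨g, hg⟩, ?_, rfl⟩⟩
    rw [← map_pow] at hlg
    exact QuotientGroup.eq.1 hlg
  · intro x hx hxM l hl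
    have hx' : (⟨x, hx⟩ : P) ∉ M0 := fun h => hxM ((hlift hx).2 h)
    rw [← hord _ hx', orderOf_dvd_iff_pow_eq_one, ← map_pow, QuotientGroup.mk'_apply, QuotientGroup.eq_one_iff]
    obtain ⟨y, hy, hye⟩ := hl
    rwa [show (⟨x, hx⟩ : P) ^ l = y from Subtype.ext hye.symm]
  · intro g hg b
    obtain ⟨g', hg', rfl⟩ := hg
    rw [hBmem, hBmem]
    constructor
    · rintro ⟨h, hh, he⟩
      exact ⟨g'⁻¹ * h, M0.mul_mem (M0.inv_mem hg') hh, by
        rw [Subgroup.coe_mul, Perm.mul_apply, he, Subgroup.coe_inv]; simp⟩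
    · rintro ⟨h, hh, rfl⟩
      exact ⟨g' * h, M0.mul_mem hg' hh, rfl⟩
  · exact Finset.filter_subset _ _
  · intro b hb c hc
    obtain ⟨h, -, rfl⟩ := (hBmem c).1 hc
    obtain ⟨g, hg, rfl⟩ := htr b hb
    exact ⟨g * (h : Perm α)⁻¹, P.mul_mem hg (P.inv_mem h.2), by simp⟩
  · intro g hg b hb hgb
    obtain ⟨h, hh, rfl⟩ := (hBmem b).1 hb
    obtain ⟨h', hh', he'⟩ := (hBmem _).1 hgb
    have hst : h'⁻¹ * ⟨g, hg⟩ * h ∈ M0 := hHM (by
      show ((h'⁻¹ * ⟨g, hg⟩ * h : P) : Perm α) a = a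
      rw [Subgroup.coe_mul, Subgroup.coe_mul, Perm.mul_apply, Perm.mul_apply, Subgroup.coe_inv]
      simp only []
      rw [← he']; simp)
    refine (hlift hg).2 ?_
    have := M0.mul_mem (M0.mul_mem hh' hst) (M0.inv_mem hh)
    simpa [mul_assoc] using this

theorem pairSum_trivial (K : Subgroup (Perm α)) (u : Perm α) (W : Perm α → ℕ) (c : ℕ)
    (h : ∀ x ∈ coset K u, W x ≤ c) (hK : K = ⊥) : pairSum K u W ≤ Nat.card K * c := by
  subst hK
  rw [pairSum, ← card_coset (⊥ : Subgroup (Perm α)) u, ← smul_eq_mul, ← Finset.sum_const]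
  refine Finset.sum_le_sum fun x hx => ?_
  have : cent (⊥ : Subgroup (Perm α)) x = 1 := by simp [cent]
  rw [this, one_mul]
  exact h x hx

theorem supp_small {P : Subgroup (Perm α)} {s : Finset α} (hS : Supp P s) (hs : s.card ≤ 1) {g : Perm α}
    (hg : g ∈ P) : g = 1 := by
  rw [← Perm.support_eq_empty_iff]
  by_contra h
  have h1 := Perm.one_lt_card_support_of_ne_one (f := g) (fun he => h (by simp [he]))
  have := Finset.card_le_card (hS g hg)
  omega

open scoped Classical in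
/-- The class number bound for permutation `2`-groups, in pair form. -/
theorem two_bound (s : Finset α) : ∀ (P : Subgroup (Perm α)), IsPGroup 2 P → Supp P s →
    ∀ K ≤ P, ∀ u ∈ P, pairSum K u (fun _ => 1) ≤ Nat.card K * f2 s.card := by
  induction s using Finset.strongInduction with
  | H s ih =>
  intro P hP hS K hK u hu
  by_cases hs : s.card ≤ 1
  · have hKb : K = ⊥ := (Subgroup.eq_bot_iff_forall K).2 fun g hg => supp_small hS hs (hK hg)
    refine pairSum_trivial K u _ _ (fun x _ => ?_) hKb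
    rw [f2, show s.card / 4 = 0 by omega, show s.card % 4 = s.card by omega]
    simp [show s.card < 2 by omega]
  have hsplit : ∀ (Q : Subgroup (Perm α)) (s1 : Finset α), IsPGroup 2 Q → Supp Q s → Inv Q s1 → s1 ⊂ s →
      s1.Nonempty → ∀ K ≤ Q, ∀ u ∈ Q,
        pairSum K u (fun _ => 1) ≤ Nat.card K * (f2 s1.card * f2 (s \ s1).card) := by
    intro Q s1 hQ hQS h1i hlt hne K hK u hu
    have h2i : Inv Q (s \ s1) := hQS.inv.sdiff h1i
    have hlt2 : s \ s1 ⊂ s := Finset.sdiff_ssubset hlt.1 hne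
    refine pairSum_split_sets (s1 := s1) (s2 := s \ s1) Finset.disjoint_sdiff
      (by rw [Finset.union_sdiff_of_subset hlt.1]; exact hQS) h1i h2i K hK hu _ (fun _ => f2 (s \ s1).card) _ ?_ ?_
    · intro a _ K' hK' u' hu'
      exact ih _ hlt2 _ (isPGroup_range_res h2i hQ) (supp_range_res h2i) K' hK' u' hu'
    · intro K' hK' u' hu'
      have := ih _ hlt _ (isPGroup_range_res h1i hQ) (supp_range_res h1i) K' hK' u' hu'
      have h' : pairSum K' u' (fun _ => f2 (s \ s1).card) = pairSum K' u' (fun _ => 1) * f2 (s \ s1).card := by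
        simp [pairSum, Finset.sum_mul]
      rw [h', ← mul_assoc]
      exact Nat.mul_le_mul_right _ this
  obtain ⟨a, ha⟩ : s.Nonempty := Finset.card_pos.1 (by omega)
  by_cases htr : ∀ b ∈ s, ∃ g ∈ P, g a = b
  · obtain ⟨M, B, e, x, hb, haB, hBc, hx, hxM⟩ := exists_blocks hP hS ha htr (by omega)
    have hBne : B.Nonempty := ⟨a, haB⟩
    have hcard := hb.card hBne hx hxM
    have hMi : Inv M B := hb.inv
    have hBlt : B ⊂ s := Finset.ssubset_iff_subset_ne.2 ⟨hb.sub, fun h => by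
      rw [h] at hcard; have := hBne.card_pos; rw [h] at this; omega⟩
    have hd : (s \ B).card = B.card := by rw [Finset.card_sdiff_of_subset hb.sub]; omega
    have key := two_ineq e
    rw [← hBc, ← hcard] at key
    have hmono : f2 B.card * f2 B.card ≤ f2 s.card := (f2_mul_le _ _).trans (by rw [hcard, two_mul])
    rcases hb.trans_bound Nat.prime_two K hK hu (fun _ => 1) (f2 B.card * f2 B.card) (2 ^ (B.card - 1))
      (2 ^ (B.card - 1)) 1
      (fun K0 hK0 u0 hu0 => (hsplit M B (hP.to_le hb.le) (hS.mono hb.le) hMi hBlt hBne K0 hK0 u0 hu0).trans (le_of_eq (by rw [hd])))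
      (fun _ _ _ => le_rfl)
      (fun k hk hkM => by
        have h := hb.cent_le hP hBne hk hkM
        rw [show (B.card - 1) / (2 - 1) = B.card - 1 from Nat.div_one _] at h
        simp only [Finset.sum_const, smul_eq_mul, mul_one]
        refine le_trans (le_of_eq ?_) h
        rw [cent, Nat.card_eq_fintype_card, Fintype.card_subtype]
        congr 1; ext y
        rw [Finset.mem_filter, Finset.mem_filter, Subgroup.mem_inf, Subgroup.mem_centralizer_singleton_iff]
        rfl)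
      (fun y hy hyM => by simpa using hb.cent_le hP hBne hy hyM) with h | h
    · exact h.trans (Nat.mul_le_mul_left _ hmono)
    · refine Nat.le_of_mul_le_mul_left ?_ two_pos
      refine h.trans ?_
      rw [mul_left_comm]
      refine Nat.mul_le_mul_left _ ?_
      omega
  · push Not at htr
    obtain ⟨b, hb, hbg⟩ := htr
    set O : Finset α := s.filter (fun c => ∃ g ∈ P, g a = c) with hO
    have hOi : Inv P O := by
      intro g hg c
      rw [hO, Finset.mem_filter, Finset.mem_filter, hS.inv g hg c]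
      refine and_congr_right fun _ => ⟨?_, ?_⟩
      · rintro ⟨h, hh, he⟩
        exact ⟨g⁻¹ * h, P.mul_mem (P.inv_mem hg) hh, by rw [Perm.mul_apply, he]; simp⟩
      · rintro ⟨h, hh, rfl⟩
        exact ⟨g * h, P.mul_mem hg hh, rfl⟩
    have hlt : O ⊂ s := Finset.ssubset_iff_subset_ne.2 ⟨Finset.filter_subset _ _, fun h => by
      rw [← h, hO, Finset.mem_filter] at hb
      obtain ⟨-, g, hg, he⟩ := hb
      exact hbg g hg he⟩
    refine (hsplit P O hP hS hOi hlt ⟨a, Finset.mem_filter.2 ⟨ha, 1, P.one_mem, rfl⟩⟩ K hK u hu).trans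
      (Nat.mul_le_mul_left _ ((f2_mul_le _ _).trans ?_))
    rw [Finset.card_sdiff_of_subset hlt.1, Nat.add_sub_cancel' (Finset.card_le_card hlt.1)]

end Cfsg.Agent.Perm.ClassBound
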