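import Cfsg.Agent.Lib.Perm.ClassBound.PGroup

/-!
# Weighted class bounds for permutation `p`-groups, `p` odd
-/

set_option autoImplicit false
set_option linter.unusedSectionVars false

namespace Cfsg.Agent.Perm.ClassBound

open Equiv Finset

variable {α : Type*} [Fintype α] [DecidableEq α]

theorem pairSum_congr {K : Subgroup (Perm α)} {u : Perm α} {W W' : Perm α → ℕ}
    (h : ∀ x ∈ coset K u, W x = W' x) : pairSum K u W = pairSum K u W' :=
  Finset.sum_congr rfl fun x hx => by rw [h x hx]

theorem pow_small {p : ℕ} (hp : 3 ≤ p) (i : ℕ) : p ^ ((i - 1) / (p - 1)) ≤ (p - 1) ^ i := by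
  have h1 : p ≤ 2 ^ (p - 1) := by have := (p - 1).lt_two_pow_self; omega
  calc p ^ ((i - 1) / (p - 1)) ≤ (2 ^ (p - 1)) ^ ((i - 1) / (p - 1)) := Nat.pow_le_pow_left h1 _
    _ ≤ 2 ^ i := by
      rw [← pow_mul]
      exact Nat.pow_le_pow_right (by norm_num) ((Nat.mul_div_le _ _).trans (Nat.sub_le _ _))
    _ ≤ (p - 1) ^ i := Nat.pow_le_pow_left (by omega) _

theorem pow_big {p : ℕ} (hp : p.Prime) (h3 : 3 ≤ p) {m : ℕ} (hm : p ≤ m) (hodd : p = 3 → 7 ≤ m ∧ m % 2 = 1) :
    (1 + p) * p ^ ((m - 1) / (p - 1)) ≤ (p - 1) ^ m := by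
  rcases Nat.lt_or_ge p 5 with h5 | h5
  · have hp3 : p = 3 := by
      rcases (by omega : p = 3 ∨ p = 4) with h | h
      · exact h
      · exact absurd (h ▸ hp) (by norm_num)
    subst hp3
    obtain ⟨h7, h2⟩ := hodd rfl
    obtain ⟨j, rfl⟩ : ∃ j, m = 2 * j + 1 := ⟨m / 2, by omega⟩
    rw [show (2 * j + 1 - 1) / (3 - 1) = j by omega]
    have key : ∀ j, 3 ≤ j → 2 * 3 ^ j ≤ 4 ^ j := by
      intro j hj
      induction hj with
      | refl => norm_num
      | step _ ih => rw [pow_succ, pow_succ]; omega
    have := key j (by omega)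
    rw [show 3 - 1 = 2 from rfl, pow_succ, pow_mul]
    norm_num
    omega
  · have h1 : p ≤ 2 ^ (p - 1) := by have := (p - 1).lt_two_pow_self; omega
    have h2 : 1 + p ≤ 2 ^ (m + 1) := by
      have := m.lt_two_pow_self
      rw [pow_succ]; omega
    calc (1 + p) * p ^ ((m - 1) / (p - 1)) ≤ 2 ^ (m + 1) * (2 ^ (p - 1)) ^ ((m - 1) / (p - 1)) :=
          Nat.mul_le_mul h2 (Nat.pow_le_pow_left h1 _)
      _ ≤ 2 ^ (m + 1) * 2 ^ (m - 1) := by
          refine Nat.mul_le_mul_left _ ?_
          rw [← pow_mul]
          exact Nat.pow_le_pow_right (by norm_num) (Nat.mul_div_le _ _)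
      _ = 4 ^ m := by
          rw [← pow_add, show m + 1 + (m - 1) = 2 * m by omega, pow_mul]; norm_num
      _ ≤ (p - 1) ^ m := Nat.pow_le_pow_left (by omega) _

open scoped Classical in
/-- The number of elements of `Q` with support exactly `A`. -/
noncomputable def suppCount (Q : Subgroup (Perm α)) (A : Finset α) : ℕ :=
  (Finset.univ.filter fun z => z ∈ Q ∧ z.support = A).card

open scoped Classical in
theorem suppCount_empty (Q : Subgroup (Perm α)) : suppCount Q (∅ : Finset α) ≤ 1 :=
  Finset.card_le_one.2 fun a ha b hb => by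
    rw [Finset.mem_filter, Perm.support_eq_empty_iff] at ha hb
    rw [ha.2.2, hb.2.2]

theorem suppCount_lt {p : ℕ} [Fact p.Prime] {Q : Subgroup (Perm α)} (hQ : IsPGroup p Q) {A : Finset α}
    (hA : A.Nonempty) : suppCount Q A < p ^ ((A.card - 1) / (p - 1)) := by
  classical
  have h := card_le_of_supp (Q := Q ⊓ suppSub A) (hQ.to_le inf_le_left) (t := A) (by
    intro g hg a ha
    by_contra h
    exact Perm.mem_support.1 ha ((Subgroup.mem_inf.1 hg).2 a h)) hA
  refine lt_of_lt_of_le ?_ h
  rw [Nat.card_eq_fintype_card, Fintype.card_subtype]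
  refine Finset.card_lt_card (Finset.ssubset_iff_of_subset ?_ |>.2 ⟨1, ?_, ?_⟩)
  · intro z hz
    rw [Finset.mem_filter] at hz ⊢
    exact ⟨hz.1, Subgroup.mem_inf.2 ⟨hz.2.1, fun a ha => Perm.notMem_support.1 (hz.2.2 ▸ ha)⟩⟩
  · simp [Subgroup.one_mem]
  · intro h1
    rw [Finset.mem_filter, Perm.support_one] at h1
    exact hA.ne_empty h1.2.2.symm

open scoped Classical in
theorem suppCount_eq_zero {p : ℕ} (hp : p.Prime) {Q : Subgroup (Perm α)} (hQ : IsPGroup p Q) {A : Finset α}
    (hA : ¬ p ∣ A.card) : suppCount Q A = 0 :=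
  Finset.card_eq_zero.2 (Finset.filter_eq_empty_iff.2 fun _ _ h => hA (h.2 ▸ dvd_card_support hp hQ h.1))

/-- The bound for the fixed-point term. -/
theorem fix_sum {p : ℕ} [hp : Fact p.Prime] (h3 : 3 ≤ p) {Q : Subgroup (Perm α)} (hQ : IsPGroup p Q)
    {B : Finset α} {e : ℕ} (he : B.card = p ^ (e + 1)) (w : ℕ → ℕ) (hw : p = 3 → e = 0 → w 3 ≤ w 1) :
    ∑ A ∈ B.powerset, suppCount Q A * w A.card + p * p ^ ((B.card - 1) / (p - 1)) * w B.card ≤
      Rsum p B.card w := by
  classical
  have hB : B.Nonempty := Finset.card_pos.1 (by rw [he]; exact pow_pos hp.out.pos _)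
  have hN : suppCount Q B < p ^ ((B.card - 1) / (p - 1)) := suppCount_lt hQ hB
  by_cases h33 : p = 3 ∧ e = 0
  · obtain ⟨rfl, rfl⟩ := h33
    have hc : B.card = 3 := by rw [he]; rfl
    have hw' := hw rfl rfl
    have hle : ∀ A ∈ B.powerset, suppCount Q A * w A.card ≤
        (if A.card = 0 then w 0 else 0) + (if A.card = 3 then 2 * w 3 else 0) := by
      intro A hA
      have hAc : A.card ≤ 3 := hc ▸ Finset.card_le_card (Finset.mem_powerset.1 hA)
      interval_cases h : A.card
      · rw [Finset.card_eq_zero.1 h]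
        simpa using Nat.mul_le_mul_right (w 0) (suppCount_empty Q)
      · rw [suppCount_eq_zero Nat.prime_three hQ (by rw [h]; norm_num)]; simp
      · rw [suppCount_eq_zero Nat.prime_three hQ (by rw [h]; norm_num)]; simp
      · have := suppCount_lt hQ (A := A) (Finset.card_pos.1 (by omega))
        rw [h, show 3 ^ ((3 - 1) / (3 - 1)) = 3 from rfl] at this
        simpa using Nat.mul_le_mul_right (w 3) (Nat.lt_succ_iff.1 this)
    have hsum := Finset.sum_le_sum hle
    rw [Finset.sum_powerset_apply_card (fun i => (if i = 0 then w 0 else 0) + (if i = 3 then 2 * w 3 else 0)),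
      hc] at hsum
    simp [Finset.sum_range_succ] at hsum
    simp only [Rsum, hc, Finset.sum_range_succ, Finset.sum_range_zero]
    norm_num [Nat.choose] at hsum ⊢
    omega
  · rw [Rsum_eq_powerset, ← Finset.sum_erase_add _ _ (Finset.mem_powerset_self B),
      ← Finset.sum_erase_add _ _ (Finset.mem_powerset_self B), add_assoc]
    refine Nat.add_le_add (Finset.sum_le_sum fun A hA => Nat.mul_le_mul_right _ ?_) ?_
    · rcases A.eq_empty_or_nonempty with rfl | hne
      · simpa using suppCount_empty Q
      · exact (suppCount_lt hQ hne).le.trans (pow_small h3 _)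
    · rw [← add_mul]
      refine Nat.mul_le_mul_right _ ?_
      have := pow_big hp.out h3 (m := B.card) (by rw [he]; exact Nat.le_self_pow (by omega) _) (by
        intro hp3
        subst hp3
        obtain ⟨f, hf⟩ : ∃ f, e = f + 1 := ⟨e - 1, by omega⟩
        subst hf
        rw [he, Nat.pow_mod]
        have : 1 ≤ 3 ^ f := Nat.one_le_pow _ _ (by norm_num)
        rw [show 3 ^ (f + 1 + 1) = 9 * 3 ^ f by ring]
        constructor
        · omega
        · simp)
      rw [add_mul, one_mul] at this
      omega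

theorem supp_eq_union {P : Subgroup (Perm α)} {s O : Finset α} (hOs : O ⊆ s) (hS : Supp P s) :
    Supp P (O ∪ (s \ O)) := by rwa [Finset.union_sdiff_of_subset hOs]

open scoped Classical in
/-- The weighted class bound for permutation `p`-groups, `p` odd, in pair form. -/
theorem odd_bound (p : ℕ) [hp : Fact p.Prime] (h3 : 3 ≤ p) (s : Finset α) :
    ∀ (P : Subgroup (Perm α)), IsPGroup p P → Supp P s → ∀ K ≤ P, ∀ u ∈ P, ∀ w : ℕ → ℕ,
      (p = 3 → ∀ i, i + 2 ≤ s.card / 3 → w (i + 2) ≤ w i) →
      pairSum K u (fun x => w (x.support.card / p)) ≤ Nat.card K * Rsum p (s.card / p) w := by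
  induction s using Finset.strongInduction with
  | H s ih =>
  intro P hP hS K hK u hu w hw
  by_cases hs : s.card ≤ 1
  · have hKb : K = ⊥ := (Subgroup.eq_bot_iff_forall K).2 fun g hg => supp_small hS hs (hK hg)
    refine pairSum_trivial K u _ _ (fun x hx => ?_) hKb
    rw [supp_small hS hs (coset_subset hK hu hx), Nat.div_eq_of_lt (by omega : s.card < p), Rsum_zero,
      Perm.support_one, Finset.card_empty, Nat.zero_div]
  have hsplit : ∀ (Q : Subgroup (Perm α)) (s1 : Finset α), IsPGroup p Q → Supp Q s → Inv Q s1 → s1 ⊂ s →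
      s1.Nonempty → ∀ K ≤ Q, ∀ u ∈ Q,
        pairSum K u (fun x => w (x.support.card / p)) ≤ Nat.card K * Rsum p (s.card / p) w := by
    intro Q s1 hQ hQS h1i hlt hne K hK u hu
    have h2i : Inv Q (s \ s1) := hQS.inv.sdiff h1i
    have hlt2 : s \ s1 ⊂ s := Finset.sdiff_ssubset hlt.1 hne
    have hk : s1.card / p + (s \ s1).card / p ≤ s.card / p := by
      refine Nat.div_add_div_le_add_div.trans ?_
      rw [Finset.card_sdiff_of_subset hlt.1, Nat.add_sub_cancel' (Finset.card_le_card hlt.1)]
    have hR : Rsum p (s1.card / p) (fun a => Rsum p ((s \ s1).card / p) (fun i => w (a + i))) ≤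
        Rsum p (s.card / p) w := by
      rw [Rsum_comp]; exact Rsum_mono p hk w
    refine le_trans (pairSum_split_sets (s1 := s1) (s2 := s \ s1) Finset.disjoint_sdiff
      (supp_eq_union hlt.1 hQS) h1i h2i K hK hu _
      (fun x => Rsum p ((s \ s1).card / p) (fun i => w (x.support.card / p + i))) _ ?_ ?_)
      (Nat.mul_le_mul_left _ hR)
    · intro a ha K' hK' u' hu'
      have hsa := supp_range_res h1i a ha
      have hta := Nat.div_le_div_right (c := p) (Finset.card_le_card hsa)
      rw [pairSum_congr (W' := fun y => w (a.support.card / p + y.support.card / p)) (fun y hy => by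
        have hyr := coset_subset hK' hu' hy
        have hd : Perm.Disjoint a y := Perm.disjoint_iff_disjoint_support.2
          (Finset.disjoint_of_subset_left hsa
            (Finset.disjoint_of_subset_right (supp_range_res h2i y hyr) Finset.disjoint_sdiff))
        rw [hd.card_support_mul, Nat.add_div_eq_of_add_mod_lt (by
          rw [Nat.mod_eq_zero_of_dvd (dvd_card_support hp.out (isPGroup_range_res h1i hQ) ha),
            Nat.mod_eq_zero_of_dvd (dvd_card_support hp.out (isPGroup_range_res h2i hQ) hyr)]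
          exact hp.out.pos)]) ]
      exact ih _ hlt2 _ (isPGroup_range_res h2i hQ) (supp_range_res h2i) K' hK' u' hu'
        (fun i => w (a.support.card / p + i)) (fun h3' i hi => by
          subst h3'
          show w (_ + (i + 2)) ≤ w _
          rw [← add_assoc]
          exact hw rfl _ (by omega))
    · intro K' hK' u' hu'
      exact ih _ hlt _ (isPGroup_range_res h1i hQ) (supp_range_res h1i) K' hK' u' hu'
        (fun b => Rsum p ((s \ s1).card / p) (fun i => w (b + i))) (fun h3' b hb => by
        subst h3'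
        refine Rsum_mono_fun _ _ fun i hi => ?_
        rw [show b + 2 + i = b + i + 2 by ring]
        exact hw rfl _ (by omega))
  obtain ⟨a, ha⟩ : s.Nonempty := Finset.card_pos.1 (by omega)
  by_cases htr : ∀ b ∈ s, ∃ g ∈ P, g a = b
  · obtain ⟨M, B, e, x, hb, haB, hBc, hx, hxM⟩ := exists_blocks hP hS ha htr (by omega)
    have hBne : B.Nonempty := ⟨a, haB⟩
    have hcard := hb.card hBne hx hxM
    have hdiv : s.card / p = B.card := by rw [hcard, Nat.mul_div_cancel_left _ hp.out.pos]
    have hBlt : B ⊂ s := Finset.ssubset_iff_subset_ne.2 ⟨hb.sub, fun h => by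
      rw [h] at hcard
      have h2 := hp.out.two_le
      have := Nat.mul_le_mul_right s.card h2
      omega⟩
    set W : Perm α → ℕ := fun x => w (x.support.card / p) with hW
    set Fx := ∑ A ∈ B.powerset, suppCount (res M B hb.inv).range A * w A.card with hFxdef
    have hout : ∀ x ∈ P, x ∉ M → W x ≤ w B.card := fun x hx hxM => by
      rw [hW]; simp only; rw [hb.no_fix hBne hp.out.one_lt hx hxM, hdiv]
    have hFx : ∀ k ∈ P, k ∉ M → ∑ y ∈ (Finset.univ.filter fun y => y ∈ M ∧ Commute y k), W y ≤ Fx := by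
      intro k hk hkM
      let f : Perm α → Perm α := fun y => if h : y ∈ M then res M B hb.inv ⟨y, h⟩ else y
      have hf : ∀ y : M, f y = res M B hb.inv y := fun y => dif_pos y.2
      calc ∑ y ∈ (Finset.univ.filter fun y => y ∈ M ∧ Commute y k), W y
          = ∑ z ∈ (Finset.univ.filter fun y => y ∈ M ∧ Commute y k).image f, w z.support.card := by
            rw [Finset.sum_image]
            · refine Finset.sum_congr rfl fun y hy => ?_
              rw [Finset.mem_filter] at hy
              rw [show f y = _ from hf ⟨y, hy.2.1⟩, support_res, hW]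
              simp only
              rw [hb.supp_card_of_comm hBne hk hkM hy.2.1 hy.2.2, Nat.mul_div_cancel_left _ hp.out.pos]
            · intro y hy z hz he
              rw [Finset.coe_filter] at hy hz
              rw [show f y = _ from hf ⟨y, hy.2.1⟩, show f z = _ from hf ⟨z, hz.2.1⟩] at he
              exact congrArg Subtype.val (hb.res_inj hBne hk hkM (y := ⟨y, hy.2.1⟩) (z := ⟨z, hz.2.1⟩) hy.2.2 hz.2.2 he :)
        _ ≤ ∑ z ∈ (Finset.univ.filter fun z => z ∈ (res M B hb.inv).range), w z.support.card := by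
            refine Finset.sum_le_sum_of_subset fun z hz => ?_
            obtain ⟨y, hy, rfl⟩ := Finset.mem_image.1 hz
            rw [Finset.mem_filter] at hy ⊢
            exact ⟨Finset.mem_univ _, ⟨⟨y, hy.2.1⟩, (hf ⟨y, hy.2.1⟩).symm⟩⟩
        _ = Fx := by
            rw [← Finset.sum_fiberwise_of_maps_to (t := B.powerset) (g := fun z => z.support) (fun z hz =>
              Finset.mem_powerset.2 (supp_range_res hb.inv z (Finset.mem_filter.1 hz).2))]
            refine Finset.sum_congr rfl fun A _ => ?_
            rw [Finset.filter_filter, suppCount, ← smul_eq_mul, ← Finset.sum_const]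
            refine Finset.sum_congr ?_ fun z hz => ?_
            · convert rfl
            simp only [Finset.mem_filter] at hz
            rw [hz.2.2]
    rcases e with _ | e
    · rw [pow_zero] at hBc
      obtain ⟨c, hc⟩ := Finset.card_eq_one.1 hBc
      have hM : ∀ y ∈ M, y = 1 := by
        intro y hy
        refine Equiv.ext fun d => ?_
        by_cases hd : d ∈ s
        · obtain ⟨g, hg, rfl⟩ := hb.orbit d hd c (hc ▸ Finset.mem_singleton_self c)
          have h1 := hb.normal g⁻¹ (P.inv_mem hg) y hy
          have h2 := (hb.inv _ h1 c).2 (hc ▸ Finset.mem_singleton_self c)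
          rw [hc, Finset.mem_singleton, inv_inv, Perm.mul_apply, Perm.mul_apply] at h2
          have h3 := congrArg g h2
          simpa using h3
        · exact hb.supp.fix (hb.le hy) hd
      have hT : ∀ K0 ≤ M, ∀ u0 ∈ M, pairSum K0 u0 W ≤ Nat.card K0 * w 0 := fun K0 hK0 u0 hu0 =>
        pairSum_trivial K0 u0 W _ (fun y hy => by rw [hW]; simp [hM y (coset_subset hK0 hu0 hy)])
          ((Subgroup.eq_bot_iff_forall K0).2 fun g hg => hM g (hK0 hg))
      have key0 : ∀ (Q : Subgroup (Perm α)) (C : Finset α), IsPGroup p Q → C = {c} →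
          ∑ A ∈ C.powerset, suppCount Q A * w A.card ≤ w 0 := by
        rintro Q C hQ rfl
        rw [show ({c} : Finset α) = insert c ∅ from insert_empty.symm,
          Finset.sum_powerset_insert (Finset.notMem_empty c)]
        simp only [Finset.powerset_empty, Finset.sum_singleton, Finset.card_empty]
        rw [suppCount_eq_zero (A := insert c (∅ : Finset α)) hp.out hQ (by
          simpa using hp.out.ne_one)]
        simpa using Nat.mul_le_mul_right (w 0) (suppCount_empty Q)
      have hFx0 : Fx ≤ w 0 := key0 _ B (isPGroup_range_res hb.inv (hP.to_le hb.le)) hc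
      have hR : Rsum p (s.card / p) w = w 0 + (p - 1) * w 1 := by
        rw [hdiv, hBc]; simp [Rsum, Finset.sum_range_succ]
      rw [hR]
      rcases hb.trans_bound hp.out K hK hu W (w 0) Fx 1 (w B.card) hT hout hFx
        (fun y hy hyM => (hb.cent_le hP hBne hy hyM).trans (by rw [hBc]; simp)) with h | h
      · exact h.trans (Nat.mul_le_mul_left _ (Nat.le_add_right _ _))
      · refine Nat.le_of_mul_le_mul_left (h.trans ?_) hp.out.pos
        rw [mul_left_comm, hBc]
        refine Nat.mul_le_mul_left _ ?_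
        calc w 0 + (p - 1) * Fx + p * (p - 1) * 1 * w 1 ≤ w 0 + (p - 1) * w 0 + p * (p - 1) * 1 * w 1 := by gcongr
          _ = (1 + (p - 1)) * w 0 + p * ((p - 1) * w 1) := by ring
          _ = p * (w 0 + (p - 1) * w 1) := by rw [Nat.add_sub_cancel' hp.out.one_le, mul_add]
    · rcases hb.trans_bound hp.out K hK hu W (Rsum p (s.card / p) w) Fx _ (w B.card)
        (fun K0 hK0 u0 hu0 => hsplit M B (hP.to_le hb.le) (hS.mono hb.le) hb.inv hBlt hBne K0 hK0 u0 hu0)
        hout hFx (fun y hy hyM => hb.cent_le hP hBne hy hyM) with h | h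
      · exact h
      · refine Nat.le_of_mul_le_mul_left (h.trans ?_) hp.out.pos
        rw [mul_left_comm]
        refine Nat.mul_le_mul_left _ ?_
        have key := fix_sum h3 (isPGroup_range_res hb.inv (hP.to_le hb.le)) hBc w (fun h3' he0 => by
          subst h3'; subst he0
          exact hw rfl 1 (by rw [hdiv, hBc]; norm_num))
        rw [← hFxdef, ← hdiv] at key
        rw [← hdiv]
        calc Rsum p (s.card / p) w + (p - 1) * Fx +
              p * (p - 1) * p ^ ((s.card / p - 1) / (p - 1)) * w (s.card / p)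
            = Rsum p (s.card / p) w + (p - 1) * (Fx + p * p ^ ((s.card / p - 1) / (p - 1)) * w (s.card / p)) := by ring
          _ ≤ Rsum p (s.card / p) w + (p - 1) * Rsum p (s.card / p) w := by gcongr
          _ = (1 + (p - 1)) * Rsum p (s.card / p) w := by ring
          _ = p * Rsum p (s.card / p) w := by rw [Nat.add_sub_cancel' hp.out.one_le]
  · push Not at htr
    obtain ⟨b, hb, hbg⟩ := htr
    set O : Finset α := s.filter (fun c => ∃ g ∈ P, g a = c) with hO
    have hOi : Inv P O := by
      intro g hg c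
      rw [hO, Finset.mem_filter, Finset.mem_filter, hS.inv g hg c]
      refine and_congr_right fun _ => ⟨?_, ?_⟩
      · rintro ⟨h, hh, he⟩
        exact ⟨g⁻¹ * h, P.mul_mem (P.inv_mem hg) hh, by rw [Perm.mul_apply, he]; simp⟩
      · rintro ⟨h, hh, rfl⟩
        exact ⟨g * h, P.mul_mem hg hh, rfl⟩
    have hlt : O ⊂ s := Finset.ssubset_iff_subset_ne.2 ⟨Finset.filter_subset _ _, fun h => by
      rw [← h, hO, Finset.mem_filter] at hb
      obtain ⟨-, g, hg, he⟩ := hb
      exact hbg g hg he⟩
    exact hsplit P O hP hS hOi hlt ⟨a, Finset.mem_filter.2 ⟨ha, 1, P.one_mem, rfl⟩⟩ K hK u hu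

end Cfsg.Agent.Perm.ClassBound
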