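import Cfsg.Agent.Lib.Perm.ClassBound.Basic

/-!
# Restriction of permutation groups to invariant sets
-/

set_option autoImplicit false
set_option linter.unusedSectionVars false

namespace Cfsg.Agent.Perm.ClassBound

open Equiv Finset

variable {α : Type*} [Fintype α] [DecidableEq α]

/-- All elements of `P` preserve `s`. -/
def Inv (P : Subgroup (Perm α)) (s : Finset α) : Prop := ∀ g ∈ P, ∀ a : α, g a ∈ s ↔ a ∈ s

/-- All elements of `P` are supported in `s`. -/
def Supp (P : Subgroup (Perm α)) (s : Finset α) : Prop := ∀ g ∈ P, g.support ⊆ s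

theorem Supp.fix {P : Subgroup (Perm α)} {s : Finset α} (h : Supp P s) {g : Perm α} (hg : g ∈ P) {a : α}
    (ha : a ∉ s) : g a = a :=
  Perm.notMem_support.1 fun hh => ha (h g hg hh)

theorem Supp.inv {P : Subgroup (Perm α)} {s : Finset α} (h : Supp P s) : Inv P s := by
  intro g hg a
  constructor
  · intro hga
    by_contra ha
    rw [h.fix hg ha] at hga
    exact ha hga
  · intro ha
    by_contra hga
    have := h.fix (P.inv_mem hg) hga
    rw [Perm.inv_def, Equiv.symm_apply_apply] at this
    exact hga (this ▸ ha)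

theorem Inv.sdiff {P : Subgroup (Perm α)} {s t : Finset α} (hs : Inv P s) (ht : Inv P t) : Inv P (s \ t) :=
  fun g hg a => by simp [hs g hg a, ht g hg a]

theorem Inv.mono {P Q : Subgroup (Perm α)} {s : Finset α} (hs : Inv P s) (h : Q ≤ P) : Inv Q s :=
  fun g hg => hs g (h hg)

theorem Supp.mono {P Q : Subgroup (Perm α)} {s : Finset α} (hs : Supp P s) (h : Q ≤ P) : Supp Q s :=
  fun g hg => hs g (h hg)

/-- Restriction to an invariant set, extended by the identity. -/
def res (P : Subgroup (Perm α)) (s : Finset α) (h : Inv P s) : ↥P →* Perm α :=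
  (Perm.ofSubtype (p := (· ∈ s))).comp
    (MonoidHom.mk' (fun g : ↥P => Perm.subtypePerm (g : Perm α) (fun a => h g g.2 a))
      fun g g' => by ext x; rfl)

theorem res_mem {P : Subgroup (Perm α)} {s : Finset α} (h : Inv P s) (g : P) {a : α} (ha : a ∈ s) :
    res P s h g a = (g : Perm α) a := by
  rw [res, MonoidHom.comp_apply, Perm.ofSubtype_apply_of_mem _ ha]
  rfl

theorem res_notMem {P : Subgroup (Perm α)} {s : Finset α} (h : Inv P s) (g : P) {a : α} (ha : a ∉ s) :
    res P s h g a = a := by
  rw [res, MonoidHom.comp_apply, Perm.ofSubtype_apply_of_not_mem _ ha]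

theorem support_res {P : Subgroup (Perm α)} {s : Finset α} (h : Inv P s) (g : P) :
    (res P s h g).support = (g : Perm α).support ∩ s := by
  ext a
  rw [Finset.mem_inter, Perm.mem_support, Perm.mem_support]
  by_cases ha : a ∈ s
  · simp [res_mem h g ha, ha]
  · simp [res_notMem h g ha, ha]

theorem supp_range_res {P : Subgroup (Perm α)} {s : Finset α} (h : Inv P s) : Supp (res P s h).range s := by
  rintro _ ⟨g, rfl⟩
  rw [support_res]
  exact Finset.inter_subset_right

theorem isPGroup_range_res {p : ℕ} {P : Subgroup (Perm α)} {s : Finset α} (h : Inv P s) (hP : IsPGroup p P) :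
    IsPGroup p (res P s h).range :=
  hP.of_surjective (res P s h).rangeRestrict (res P s h).rangeRestrict_surjective

theorem mem_ker_res {P : Subgroup (Perm α)} {s : Finset α} (h : Inv P s) (g : P) :
    g ∈ (res P s h).ker ↔ ∀ a ∈ s, (g : Perm α) a = a := by
  rw [MonoidHom.mem_ker]
  constructor
  · intro hg a ha
    rw [← res_mem h g ha, hg]; rfl
  · intro hg
    ext a
    by_cases ha : a ∈ s
    · rw [res_mem h g ha, hg a ha]; rfl
    · rw [res_notMem h g ha]; rfl

theorem eq_res_mul {P : Subgroup (Perm α)} {s t : Finset α} (hs : Inv P s) (ht : Inv P t)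
    (hd : _root_.Disjoint s t) (g : P) (hg : (g : Perm α).support ⊆ s ∪ t) :
    (g : Perm α) = res P s hs g * res P t ht g ∧ Perm.Disjoint (res P s hs g) (res P t ht g) := by
  have hdis : Perm.Disjoint (res P s hs g) (res P t ht g) := by
    intro a
    by_cases ha : a ∈ s
    · exact Or.inr (res_notMem ht g (Finset.disjoint_left.1 hd ha))
    · exact Or.inl (res_notMem hs g ha)
  refine ⟨?_, hdis⟩
  ext a
  rw [Perm.mul_apply]
  by_cases hat : a ∈ t
  · have h1 : (g : Perm α) a ∈ t := (ht g g.2 a).2 hat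
    rw [res_mem ht g hat, res_notMem hs g (Finset.disjoint_right.1 hd h1)]
  · rw [res_notMem ht g hat]
    by_cases has : a ∈ s
    · rw [res_mem hs g has]
    · rw [res_notMem hs g has]
      exact Perm.notMem_support.1 fun hh => by rcases Finset.mem_union.1 (hg hh) with h | h <;> contradiction

theorem dvd_card_support {p : ℕ} (hp : p.Prime) {P : Subgroup (Perm α)} (hP : IsPGroup p P) {g : Perm α}
    (hg : g ∈ P) : p ∣ g.support.card := by
  obtain ⟨e, he⟩ := hP ⟨g, hg⟩
  rw [← Perm.sum_cycleType]
  refine Multiset.dvd_sum fun n hn => ?_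
  have h1 : n ∣ p ^ e := (Perm.dvd_of_mem_cycleType hn).trans
    (orderOf_dvd_of_pow_eq_one (congrArg Subtype.val he))
  obtain ⟨j, -, rfl⟩ := (Nat.dvd_prime_pow hp).1 h1
  have h2 := Perm.two_le_of_mem_cycleType hn
  rcases Nat.eq_zero_or_pos j with rfl | hj
  · simp at h2
  · exact dvd_pow_self p hj.ne'

/-- A `p`-group supported on a set of `t ≥ 1` points has order at most `p ^ ((t - 1) / (p - 1))`. -/
theorem card_le_of_supp {p : ℕ} [hp : Fact p.Prime] {Q : Subgroup (Perm α)} (hQ : IsPGroup p Q) {t : Finset α}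
    (hs : Supp Q t) (ht : t.Nonempty) : Nat.card Q ≤ p ^ ((t.card - 1) / (p - 1)) := by
  obtain ⟨e, he⟩ := IsPGroup.iff_card.1 hQ
  rw [he]
  refine Nat.pow_le_pow_right hp.out.pos ?_
  rw [Nat.le_div_iff_mul_le (Nat.sub_pos_of_lt hp.out.one_lt), mul_comm]
  have h1 : Nat.card Q ∣ (t.card).factorial := by
    let f : ↥Q →* Perm {a // a ∈ t} :=
      MonoidHom.mk' (fun g : ↥Q => Perm.subtypePerm (g : Perm α) (fun a => hs.inv g g.2 a))
        fun g g' => by ext x; rfl
    have hf : Function.Injective f := by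
      intro a b hab
      refine Subtype.ext (Equiv.ext fun x => ?_)
      by_cases hx : x ∈ t
      · exact congrArg Subtype.val (DFunLike.congr_fun hab ⟨x, hx⟩ :)
      · rw [hs.fix a.2 hx, hs.fix b.2 hx]
    have := Subgroup.card_dvd_of_injective f hf
    rwa [Nat.card_perm, Nat.card_eq_fintype_card (α := {a // a ∈ t}), Fintype.card_coe] at this
  rw [he, padicValNat_dvd_iff_le (Nat.factorial_ne_zero _)] at h1
  have h2 := sub_one_mul_padicValNat_factorial (p := p) t.card
  have h3 : 1 ≤ (p.digits t.card).sum := by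
    refine List.sum_pos_iff_exists_pos_nat.2 ?_
    have hne : p.digits t.card ≠ [] := Nat.digits_ne_nil_iff_ne_zero.2 ht.card_pos.ne'
    exact ⟨_, List.getLast_mem hne, Nat.pos_of_ne_zero (Nat.getLast_digit_ne_zero p ht.card_pos.ne')⟩
  calc (p - 1) * e ≤ (p - 1) * padicValNat p t.card.factorial := Nat.mul_le_mul_left _ h1
    _ ≤ t.card - 1 := by omega

end Cfsg.Agent.Perm.ClassBound
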